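import Groth.Agent.Resolve.K284.Main
import Groth.Agent.Resolve.K631.Init
import Groth.Agent.Resolve.K105.Cmp
import Groth.Agent.S9692

/-!
# Node B: separation of sections

Assembly of `K84.Iface.NodeB K` from the initial normal crossing family (`InitStmt`), the comparability of the initial
exponents (`CmpStmt`) and the induction `K284.Main.concl`.
-/

set_option autoImplicit false
universe u

open CategoryTheory CategoryTheory.Limits AlgebraicGeometry BlowUp

namespace K284.NodeB

open K284.Sect K284.NcdPt K284.Comb K284.Step K284.Main LogNCD K890.Ncd K84.Iface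
  Groth.Agent.Divis Groth.Agent.Divis.IdealComap Groth.Agent.Divis.BlowUpFormal

/-- The initial family is a normal crossing family. -/
def InitStmt (K : Type u) [Field K] : Prop :=
  ∀ (Y P : Scheme.{u}) (y : Y ⟶ Spec (CommRingCat.of K)) (q : P ⟶ Y), Smooth y → SmoothOfRelativeDimension 1 q →
    IsSeparated q → ∀ (r : ℕ) (D : Fin r → Y.IdealSheafData), IsNCD D y →
    IsNCD (fun i => (D i).comap q) (q ≫ y) ∧ ∀ s : Y ⟶ P, s ≫ q = 𝟙 Y →
      IsNCD (Fin.cons s.ker (fun i => (D i).comap q) : Fin (r + 1) → P.IdealSheafData) (q ≫ y)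

/-- Comparability of the initial exponents. -/
def CmpStmt (K : Type u) [Field K] : Prop :=
  ∀ (Y P : Scheme.{u}) (y : Y ⟶ Spec (CommRingCat.of K)) (q : P ⟶ Y), Smooth y → IsIntegral Y → IsNoetherian Y →
    SmoothOfRelativeDimension 1 q → IsSeparated q → ∀ (r : ℕ) (D : Fin r → Y.IdealSheafData), IsNCD D y →
    (∀ l, IsIntegral (D l).subscheme) → ∀ (s t w : Y ⟶ P), s ≫ q = 𝟙 Y → t ≫ q = 𝟙 Y → w ≫ q = 𝟙 Y →
    ∀ (α β γ : Fin r → ℕ), s.ker.comap t = ∏ l, D l ^ α l → s.ker.comap w = ∏ l, D l ^ β l →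
      t.ker.comap w = ∏ l, D l ^ γ l →
      (∀ l, min (α l) (γ l) ≤ β l) ∧ ∀ x : Y, (∀ l, x ∈ (D l).support → α l ≤ β l) ∨
        (∀ l, x ∈ (D l).support → β l ≤ α l)

variable {K : Type u} [Field K]

theorem generic_notMem {Y : Scheme.{u}} [IsIntegral Y] {I : Y.IdealSheafData} (h : IsEffCartierIdeal I) :
    genericPoint Y ∉ I.support := by
  rw [K165.LogRes.mem_support_bot_iff]
  exact ne_bot_of_isEff h

/-- **Separation of sections.** -/
theorem main (hInit : InitStmt.{u} K) (hCmp : CmpStmt.{u} K) : NodeB.{u} K := by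
  classical
  intro Y P y q hYint hPint hy hysm hq1 hq r₀ D₀ hD₀ N s hs hcoinc
  have hyp : IsProper y := (K165.LogRes.exists_ample hy).1
  have hYn : IsNoetherian Y := K165.LogRes.isNoetherian_of_proper y
  have hqy : RelProj.IsHProjective (q ≫ y) := Groth.Agent.S9692.result q y hq hy
  have hqyp : IsProper (q ≫ y) := (K165.LogRes.exists_ample hqy).1
  have hqsep : IsSeparated q := IsSeparated.of_comp q y
  have hqsm : Smooth q := SmoothOfRelativeDimension.smooth 1 q
  obtain ⟨r, D, hD, hint, hsupp⟩ := K660.NcdRefine.exists_refine y D₀ hD₀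
  have hDeff : ∀ l, IsEffCartierIdeal (D l) := fun l => K911.Ncd.isEff_of_isNCD hD l
  have hgen : ∀ l, genericPoint Y ∉ (D l).support := fun l => generic_notMem (hDeff l)
  have hsuppD : ∀ x, x ∈ supp D₀ ↔ ∃ l, x ∈ (D l).support := fun x => by
    rw [hsupp x]
    exact Set.mem_iUnion
  have hclosed : ∀ j, IsClosedImmersion (s j) := fun j => by
    have : IsClosedImmersion (s j ≫ q) := by rw [hs j]; infer_instance
    exact IsClosedImmersion.of_comp (s j) q
  obtain ⟨hE, hEs⟩ := hInit Y P y q hysm hq1 hqsep r D hD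
  have hker : ∀ j, IsEffCartierIdeal (s j).ker := fun j =>
    K911.Ncd.isEff_of_isNCD (hEs (s j) (hs j)) 0
  -- the exponents
  have hex : ∀ i j, i ≠ j → ∃ a : Fin r → ℕ, (s i).ker.comap (s j) = ∏ l, D l ^ a l := by
    intro i j hij
    have hsub : ∀ x : Y, x ∈ ((s i).ker.comap (s j)).support → ∃ l, x ∈ (D l).support := by
      intro x hx
      rw [mem_support_comap, mem_support_iff_range] at hx
      exact (hsuppD x).1 (hcoinc j i (Ne.symm hij) hx)
    refine Groth.Agent.S1659.result Y _ ?_ r D hDeff hint fun x hx => Set.mem_iUnion.2 (hsub x hx)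
    refine K660.Kol.isEff_comap_of_generic (s j) (hker i) ?_
    intro h
    obtain ⟨l, hl⟩ := hsub _ ((mem_support_comap _ _ _).2 h)
    exact hgen l hl
  choose! A hA using hex
  let a : Fin N → Fin N → Fin r → ℕ := fun i j => if i < j then A i j else A j i
  have ha : ∀ i j, i ≠ j → (s i).ker.comap (s j) = ∏ l, D l ^ a i j l := by
    intro i j hij
    by_cases h : i < j
    · simp only [a, if_pos h]
      exact hA i j hij
    · simp only [a, if_neg h]
      rw [coincidence_symm q (s i) (s j) (hs i) (hs j)]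
      exact hA j i hij.symm
  have hsymm : ∀ i j l, a i j l = a j i l := by
    intro i j l
    rcases lt_trichotomy i j with h | h | h
    · simp only [a, if_pos h, if_neg h.asymm]
    · rw [h]
    · simp only [a, if_pos h, if_neg h.asymm]
  have hcmp : ∀ i j k, i ≠ j → j ≠ k → i ≠ k → (∀ l, min (a i j l) (a j k l) ≤ a i k l) ∧
      ∀ x : Y, (∀ l, x ∈ (D l).support → a i j l ≤ a i k l) ∨ (∀ l, x ∈ (D l).support → a i k l ≤ a i j l) :=
    fun i j k hij hjk hik => hCmp Y P y q hysm hYint hYn hq1 hqsep r D hD hint (s i) (s j) (s k) (hs i) (hs j) (hs k)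
      _ _ _ (ha i j hij) (ha i k hik) (ha j k hjk)
  have hU : Ultra (LL D) a := by
    refine ⟨hsymm, fun i j k l hij hjk hik => (hcmp i j k hij hjk hik).1 l, ?_⟩
    rintro _ ⟨x, rfl⟩ i j k hij hik hjk
    exact (hcmp i j k hij hjk hik).2 x
  have G : Good y D q (fun l => (D l).comap q) s (fun _ l => l) a :=
    { int := hPint
      proj := hqy
      smooth := inferInstance
      sec := hs
      closed := hclosed
      ncd := hE
      ncds := fun j => hEs (s j) (hs j)
      inj := fun _ => Function.injective_id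
      ec := fun j l => by
        rw [← Scheme.IdealSheafData.comap_comp, hs j, Scheme.IdealSheafData.comap_id]
      et := fun j e he => (he e rfl).elim
      ex := ha
      same := fun _ _ _ _ _ => rfl
      cover := fun x l hx => ⟨l, (mem_support_comap _ _ _).2 hx⟩ }
  let V : Y.Opens := ⟨⋂ l, ((D l).support : Set Y)ᶜ, isOpen_iInter_of_finite fun l => (D l).support.isClosed.isOpen_compl⟩
  have hV : ∀ x ∈ V, ∀ l, x ∉ (D l).support := fun x hx l => Set.mem_iInter.1 hx l
  obtain ⟨P₁, b, r', D', e1, e2, e3, e4, e5, e6⟩ := concl hD V hV (total a) q _ s _ a G hU le_rfl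
  refine ⟨P₁, b, r', D', e1, e2, ⟨q ⁻¹ᵁ V, ?_, e3⟩, e4, e5, ?_⟩
  · have hopen : IsOpenMap q := q.isOpenMap
    have h1 : (Set.range q ∩ V).Nonempty := by
      have hg : genericPoint Y ∈ (V : Set Y) := Set.mem_iInter.2 fun l => hgen l
      refine ⟨genericPoint Y, ?_, hg⟩
      exact (genericPoint_spec Y).mem_open_set_iff hopen.isOpen_range |>.2 (by
        rw [Set.univ_inter]
        exact Set.range_nonempty q)
    obtain ⟨_, ⟨x, rfl⟩, hx⟩ := h1
    exact ⟨x, hx⟩
  · refine subset_trans (Set.preimage_mono ?_) e6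
    refine Set.union_subset_union_right _ (Set.preimage_mono fun x hx => ?_)
    exact Set.mem_iUnion.2 ((hsuppD x).1 hx)

theorem initStmt : InitStmt.{u} K := by
  intro Y P y q h1 h2 h3 r D hD
  exact K631.Init.init y q D hD

theorem cmpStmt : CmpStmt.{u} K := by
  intro Y P y q h1 h2 h3 h4 h5 r D hD hint s t w hs ht hw α β γ e1 e2 e3
  exact K105.Cmp.cmp' y q D hD hint s t w hs ht hw α β γ e1 e2 e3

/-- **Node B.** -/
theorem nodeB (K : Type u) [Field K] : K84.Iface.NodeB.{u} K := main initStmt cmpStmt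

end K284.NodeB
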