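import Mathlib.Data.Finset.Max
import Mathlib.Data.Fintype.BigOperators
import Mathlib.Algebra.Order.BigOperators.Group.Finset
import Mathlib.Tactic

/-!
# Combinatorics of the separation of sections

Families of exponent vectors which are ultrametric and pairwise comparable at every point; choice of a maximal
cluster; effect of one blow-up.
-/

set_option autoImplicit false

namespace K284.Comb

variable {N r : ℕ}

/-- Exponents `a i j l` of the coincidence ideals; `𝓛` is the set of the sets of components through the points. -/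
structure Ultra (𝓛 : Set (Set (Fin r))) (a : Fin N → Fin N → Fin r → ℕ) : Prop where
  symm : ∀ i j l, a i j l = a j i l
  ultra : ∀ i j k l, i ≠ j → j ≠ k → i ≠ k → min (a i j l) (a j k l) ≤ a i k l
  comp : ∀ L ∈ 𝓛, ∀ i j k, i ≠ j → i ≠ k → j ≠ k →
    (∀ l ∈ L, a i j l ≤ a i k l) ∨ (∀ l ∈ L, a i k l ≤ a i j l)

/-- The cluster of `i` along `l`. -/
def cl (a : Fin N → Fin N → Fin r → ℕ) (i : Fin N) (l : Fin r) : Finset (Fin N) :=
  Finset.univ.filter fun j => j = i ∨ 1 ≤ a i j l

theorem mem_cl {a : Fin N → Fin N → Fin r → ℕ} {i : Fin N} {l : Fin r} {j : Fin N} :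
    j ∈ cl a i l ↔ j = i ∨ 1 ≤ a i j l := by
  simp [cl]

/-- One step. -/
def step (a : Fin N → Fin N → Fin r → ℕ) (S : Finset (Fin N)) (l₀ : Fin r) : Fin N → Fin N → Fin r → ℕ :=
  fun i j l => if i ∈ S ∧ j ∈ S ∧ l = l₀ then a i j l - 1 else a i j l

variable {𝓛 : Set (Set (Fin r))} {a : Fin N → Fin N → Fin r → ℕ}

theorem one_le_of_mem (h : Ultra 𝓛 a) {i₀ : Fin N} {l : Fin r} {i j : Fin N} (hi : i ∈ cl a i₀ l)
    (hj : j ∈ cl a i₀ l) (hij : i ≠ j) : 1 ≤ a i j l := by
  rw [mem_cl] at hi hj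
  rcases hi with rfl | hi
  · rcases hj with rfl | hj
    · exact (hij rfl).elim
    · exact hj
  · rcases hj with rfl | hj
    · rwa [h.symm]
    · by_cases h1 : i = i₀
      · subst h1; exact hj
      by_cases h2 : j = i₀
      · subst h2; rw [h.symm]; exact hi
      have h3 := h.ultra i i₀ j l h1 (Ne.symm h2) hij
      rw [h.symm i i₀] at h3
      exact (le_min hi hj).trans h3

theorem cl_eq_of_mem (h : Ultra 𝓛 a) {i₀ : Fin N} {l : Fin r} {i : Fin N} (hi : i ∈ cl a i₀ l) :
    cl a i l = cl a i₀ l := by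
  by_cases h0 : i = i₀
  · rw [h0]
  have h1 : 1 ≤ a i₀ i l := by
    rcases mem_cl.1 hi with h2 | h2
    · exact (h0 h2).elim
    · exact h2
  ext j
  constructor
  · intro hj
    by_cases hj0 : j = i₀
    · subst hj0; exact mem_cl.2 (Or.inl rfl)
    rcases mem_cl.1 hj with rfl | hj
    · exact hi
    · by_cases hji : j = i
      · subst hji; exact hi
      · exact mem_cl.2 (Or.inr ((le_min h1 hj).trans (h.ultra i₀ i j l (Ne.symm h0) (Ne.symm hji) (Ne.symm hj0))))
  · intro hj
    by_cases hji : j = i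
    · exact mem_cl.2 (Or.inl hji)
    · exact mem_cl.2 (Or.inr (one_le_of_mem h hi hj (Ne.symm hji)))

/-- **Choice of a maximal cluster.** -/
theorem exists_cluster (h : Ultra 𝓛 a) (hne : ∃ i j l, i ≠ j ∧ 1 ≤ a i j l) :
    ∃ (S : Finset (Fin N)) (l₀ : Fin r), (∃ i j, i ∈ S ∧ j ∈ S ∧ i ≠ j) ∧
      (∀ i j, i ∈ S → j ∈ S → i ≠ j → 1 ≤ a i j l₀) ∧
      (∀ i j, i ∈ S → j ∉ S → a i j l₀ = 0) ∧
      (∀ i j, i ∈ S → j ∉ S → ∀ L ∈ 𝓛, l₀ ∈ L → ∀ l ∈ L, a i j l = 0) := by
  classical
  obtain ⟨i₁, j₁, l₁, hij₁, ha₁⟩ := hne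
  let T : Finset (Fin N × Fin r) := Finset.univ.filter fun p => 2 ≤ (cl a p.1 p.2).card
  have hT : T.Nonempty := by
    refine ⟨(i₁, l₁), ?_⟩
    simp only [T, Finset.mem_filter, Finset.mem_univ, true_and]
    have h1 : ({i₁, j₁} : Finset (Fin N)) ⊆ cl a i₁ l₁ := by
      intro x hx
      rw [Finset.mem_insert, Finset.mem_singleton] at hx
      rcases hx with rfl | rfl
      · exact mem_cl.2 (Or.inl rfl)
      · exact mem_cl.2 (Or.inr ha₁)
    calc 2 = ({i₁, j₁} : Finset (Fin N)).card := (Finset.card_pair hij₁).symm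
      _ ≤ _ := Finset.card_le_card h1
  obtain ⟨⟨i₀, l₀⟩, hp, hmax⟩ := T.exists_max_image (fun p => (cl a p.1 p.2).card) hT
  simp only [T, Finset.mem_filter, Finset.mem_univ, true_and] at hp hmax
  have hzero : ∀ i j, i ∈ cl a i₀ l₀ → j ∉ cl a i₀ l₀ → a i j l₀ = 0 := by
    intro i j hi hj
    rw [← cl_eq_of_mem h hi] at hj
    have : ¬ 1 ≤ a i j l₀ := fun h1 => hj (mem_cl.2 (Or.inr h1))
    omega
  refine ⟨cl a i₀ l₀, l₀, ?_, fun i j hi hj hij => one_le_of_mem h hi hj hij, hzero, ?_⟩
  · obtain ⟨x, hx, y, hy, hxy⟩ := Finset.one_lt_card.1 (show 1 < (cl a i₀ l₀).card by omega)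
    exact ⟨x, y, hx, hy, hxy⟩
  · intro i j hi hj L hL hl₀ l hl
    by_contra hne
    have h1 : 1 ≤ a i j l := by omega
    have hji : j ≠ i := by rintro rfl; exact hj hi
    have hsub : cl a i₀ l₀ ⊆ cl a i l := by
      intro k hk
      by_cases hki : k = i
      · exact mem_cl.2 (Or.inl hki)
      · have hkj : k ≠ j := by rintro rfl; exact hj hk
        have h2 : 1 ≤ a i k l₀ := one_le_of_mem h hi hk (Ne.symm hki)
        rcases h.comp L hL i j k (Ne.symm hji) (Ne.symm hki) (Ne.symm hkj) with h3 | h3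
        · exact mem_cl.2 (Or.inr (h1.trans (h3 l hl)))
        · have h4 := h3 l₀ hl₀
          rw [hzero i j hi hj] at h4
          omega
    have hjm : j ∈ cl a i l := mem_cl.2 (Or.inr h1)
    have hlt : (cl a i₀ l₀).card < (cl a i l).card :=
      Finset.card_lt_card ⟨hsub, fun h5 => hj (h5 hjm)⟩
    have := hmax (i, l) (by change 2 ≤ (cl a i l).card; omega)
    change (cl a i l).card ≤ (cl a i₀ l₀).card at this
    omega

/-- **The step preserves the hypotheses.** -/
theorem ultra_step (h : Ultra 𝓛 a) {S : Finset (Fin N)} {l₀ : Fin r}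
    (h1 : ∀ i j, i ∈ S → j ∈ S → i ≠ j → 1 ≤ a i j l₀)
    (h2 : ∀ i j, i ∈ S → j ∉ S → a i j l₀ = 0)
    (h3 : ∀ i j, i ∈ S → j ∉ S → ∀ L ∈ 𝓛, l₀ ∈ L → ∀ l ∈ L, a i j l = 0) : Ultra 𝓛 (step a S l₀) := by
  refine ⟨?_, ?_, ?_⟩
  · intro i j l
    unfold step
    rw [h.symm i j l]
    congr 1
    simp only [eq_iff_iff]
    tauto
  · intro i j k l hij hjk hik
    have h4 := h.ultra i j k l hij hjk hik
    unfold step
    by_cases hl : l = l₀
    · subst hl
      by_cases hi : i ∈ S <;> by_cases hj : j ∈ S <;> by_cases hk : k ∈ S <;>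
        simp only [hi, hj, hk, true_and, and_true, false_and, and_false, if_true, if_false] <;>
        first
          | omega
          | skip
      have h5 := h2 i j hi hj
      omega
    · simp only [hl, and_false, if_false]
      exact h4
  · intro L hL i j k hij hik hjk
    by_cases hl₀ : l₀ ∈ L
    swap
    · have h4 : ∀ i j, ∀ l ∈ L, step a S l₀ i j l = a i j l := by
        intro i j l hl
        unfold step
        rw [if_neg]
        rintro ⟨-, -, rfl⟩
        exact hl₀ hl
      rcases h.comp L hL i j k hij hik hjk with h5 | h5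
      · exact Or.inl fun l hl => by rw [h4 _ _ l hl, h4 _ _ l hl]; exact h5 l hl
      · exact Or.inr fun l hl => by rw [h4 _ _ l hl, h4 _ _ l hl]; exact h5 l hl
    by_cases hi : i ∈ S
    swap
    · have h4 : ∀ j, ∀ l, step a S l₀ i j l = a i j l := by
        intro j l
        unfold step
        rw [if_neg]
        rintro ⟨h, -, -⟩
        exact hi h
      simp only [h4]
      exact h.comp L hL i j k hij hik hjk
    by_cases hj : j ∈ S
    swap
    · refine Or.inl fun l hl => ?_
      have h4 : step a S l₀ i j l = 0 := by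
        unfold step
        rw [if_neg (by rintro ⟨-, h, -⟩; exact hj h)]
        exact h3 i j hi hj L hL hl₀ l hl
      rw [h4]; exact Nat.zero_le _
    by_cases hk : k ∈ S
    swap
    · refine Or.inr fun l hl => ?_
      have h4 : step a S l₀ i k l = 0 := by
        unfold step
        rw [if_neg (by rintro ⟨-, h, -⟩; exact hk h)]
        exact h3 i k hi hk L hL hl₀ l hl
      rw [h4]; exact Nat.zero_le _
    have key : ∀ l, a i j l ≤ a i k l → step a S l₀ i j l ≤ step a S l₀ i k l := by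
      intro l hl
      unfold step
      by_cases hll : l = l₀
      · simp only [hi, hj, hk, hll, true_and, if_true]
        subst hll
        omega
      · simp only [hll, and_false, if_false]
        exact hl
    have key' : ∀ l, a i k l ≤ a i j l → step a S l₀ i k l ≤ step a S l₀ i j l := by
      intro l hl
      unfold step
      by_cases hll : l = l₀
      · simp only [hi, hj, hk, hll, true_and, if_true]
        subst hll
        omega
      · simp only [hll, and_false, if_false]
        exact hl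
    rcases h.comp L hL i j k hij hik hjk with h5 | h5
    · exact Or.inl fun l hl => key l (h5 l hl)
    · exact Or.inr fun l hl => key' l (h5 l hl)

/-- The total exponent. -/
def total (a : Fin N → Fin N → Fin r → ℕ) : ℕ := ∑ i, ∑ j, ∑ l, a i j l

theorem step_le (a : Fin N → Fin N → Fin r → ℕ) (S : Finset (Fin N)) (l₀ : Fin r) (i j : Fin N) (l : Fin r) :
    step a S l₀ i j l ≤ a i j l := by
  unfold step
  split_ifs <;> omega

theorem total_step_lt {S : Finset (Fin N)} {l₀ : Fin r} (h0 : ∃ i j, i ∈ S ∧ j ∈ S ∧ i ≠ j)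
    (h1 : ∀ i j, i ∈ S → j ∈ S → i ≠ j → 1 ≤ a i j l₀) : total (step a S l₀) < total a := by
  obtain ⟨i, j, hi, hj, hij⟩ := h0
  unfold total
  refine Finset.sum_lt_sum (fun i _ => Finset.sum_le_sum fun j _ => Finset.sum_le_sum fun l _ => step_le a S l₀ i j l)
    ⟨i, Finset.mem_univ _, ?_⟩
  refine Finset.sum_lt_sum (fun j _ => Finset.sum_le_sum fun l _ => step_le a S l₀ i j l)
    ⟨j, Finset.mem_univ _, ?_⟩
  refine Finset.sum_lt_sum (fun l _ => step_le a S l₀ i j l) ⟨l₀, Finset.mem_univ _, ?_⟩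
  have h2 := h1 i j hi hj hij
  unfold step
  rw [if_pos ⟨hi, hj, rfl⟩]
  omega

end K284.Comb
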