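import Groth.Agent.Resolve.K284.Step2
import Groth.Agent.Resolve.K913.BlowNcd
import Groth.Agent.AdjLin.K165.LogRes

/-!
# Separation of sections: the induction
-/

set_option autoImplicit false
universe u

open CategoryTheory CategoryTheory.Limits AlgebraicGeometry BlowUp

namespace K284.Main

open K284.Sect K284.NcdPt K284.Comb K284.Step LogNCD K890.Ncd K84.Iface
  Groth.Agent.Divis Groth.Agent.Divis.IdealComap Groth.Agent.Divis.BlowUpFormal

variable {K : Type u} [Field K]

theorem lb : LB.{u} K := by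
  intro P P1 f r D hf hD a c hac b hb A1 C1 hA hC
  exact ⟨K913.BlowNcd.smooth f D hD a c hac b hb A1 C1 hA hC, (K913.BlowNcd.main f D hD a c hac b hb A1 C1 hA hC).2⟩

theorem ne_bot_of_isEff {X : Scheme.{u}} [Nonempty X] {I : X.IdealSheafData} (h : IsEffCartierIdeal I) : I ≠ ⊥ := by
  rintro rfl
  obtain ⟨x⟩ := ‹Nonempty X›
  obtain ⟨U, hxU, f, hf, h⟩ := h x
  have h1 : f = 0 := by
    have : f ∈ (⊥ : X.IdealSheafData).ideal U := by rw [h]; exact Ideal.mem_span_singleton_self f
    simpa using this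
  have : Nontrivial Γ(X, U.1) := by
    have : Nonempty U.1 := ⟨⟨x, hxU⟩⟩
    infer_instance
  rw [h1] at hf
  exact zero_notMem_nonZeroDivisors hf

variable {Y : Scheme.{u}} {y : Y ⟶ Spec (CommRingCat.of K)} {r : ℕ} {D : Fin r → Y.IdealSheafData}

/-- The sets of components through the points. -/
def LL (D : Fin r → Y.IdealSheafData) : Set (Set (Fin r)) := Set.range fun x : Y => {l | x ∈ (D l).support}

/-- The final family. -/
theorem terminal {P : Scheme.{u}} {q : P ⟶ Y} {m : ℕ} {E : Fin m → P.IdealSheafData} {N : ℕ} {s : Fin N → (Y ⟶ P)}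
    {c : Fin N → Fin r → Fin m} {a : Fin N → Fin N → Fin r → ℕ} (G : Good y D q E s c a)
    (h0 : ∀ i j l, i ≠ j → a i j l = 0) :
    IsNCD (Fin.append (fun j => (s j).ker) E) (q ≫ y) := by
  classical
  have hdisj : ∀ i j, i ≠ j → ∀ t, s j t ∉ ((s i).ker).support := by
    intro i j hij t ht
    have h1 : t ∈ ((s i).ker.comap (s j)).support := (mem_support_comap _ _ _).2 ht
    rw [G.ex i j hij, mem_support_prod] at h1
    obtain ⟨l, -, hl, -⟩ := h1
    exact hl (h0 i j l hij)
  intro x
  by_cases h : ∃ i, x ∈ Set.range (s i)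
  · obtain ⟨i, t, rfl⟩ := h
    refine ncdAt_of_map (G.ncds i (s i t))
      (Fin.append (fun j => if j = i then some 0 else none) (fun e : Fin m => some e.succ)) ?_ ?_ ?_
    · intro k
      refine Fin.addCases (fun j h => ?_) (fun e h => ?_) k
      · rw [Fin.append_left] at h ⊢
        split_ifs at h with hji
        exact hdisj j i hji t
      · rw [Fin.append_right] at h
        cases h
    · intro k k'
      refine Fin.addCases (fun j h => ?_) (fun e h => ?_) k
      · rw [Fin.append_left] at h ⊢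
        split_ifs at h with hji
        rw [Option.some.injEq] at h
        rw [← h, hji, Fin.cons_zero]
      · rw [Fin.append_right] at h ⊢
        rw [Option.some.injEq] at h
        rw [← h, Fin.cons_succ]
    · intro k k' k''
      refine Fin.addCases (fun j h => ?_) (fun e h => ?_) k
      · rw [Fin.append_left] at h
        split_ifs at h with hji
        rw [Option.some.injEq] at h
        refine Fin.addCases (fun j' h' => ?_) (fun e' h' => ?_) k'
        · rw [Fin.append_left] at h'
          split_ifs at h' with hji'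
          rw [hji, hji']
        · rw [Fin.append_right, ← h, Option.some.injEq] at h'
          exact (Fin.succ_ne_zero _ h').elim
      · rw [Fin.append_right, Option.some.injEq] at h
        refine Fin.addCases (fun j' h' => ?_) (fun e' h' => ?_) k'
        · rw [Fin.append_left] at h'
          split_ifs at h' with hji'
          rw [← h, Option.some.injEq] at h'
          exact (Fin.succ_ne_zero _ h'.symm).elim
        · rw [Fin.append_right, ← h, Option.some.injEq] at h'
          rw [Fin.succ_injective _ h']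
  · push Not at h
    refine ncdAt_of_map (G.ncd x) (Fin.append (fun _ => none) some) ?_ ?_ ?_
    · intro k
      refine Fin.addCases (fun j _ => ?_) (fun e h => ?_) k
      · rw [Fin.append_left]
        have := G.closed j
        rw [mem_support_iff_range]
        exact h j
      · rw [Fin.append_right] at h
        cases h
    · intro k k'
      refine Fin.addCases (fun j h => ?_) (fun e h => ?_) k
      · rw [Fin.append_left] at h
        cases h
      · rw [Fin.append_right] at h ⊢
        rw [Option.some.injEq] at h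
        rw [h]
    · intro k k' k''
      refine Fin.addCases (fun j h => ?_) (fun e h => ?_) k
      · rw [Fin.append_left] at h
        cases h
      · refine Fin.addCases (fun j' h' => ?_) (fun e' h' => ?_) k'
        · rw [Fin.append_left] at h'
          cases h'
        · rw [Fin.append_right, Option.some.injEq] at h h'
          rw [h, h']

/-- The conclusion. -/
def Concl (y : Y ⟶ Spec (CommRingCat.of K)) (D : Fin r → Y.IdealSheafData) (V : Y.Opens) {P : Scheme.{u}} (q : P ⟶ Y)
    {N : ℕ} (s : Fin N → (Y ⟶ P)) : Prop :=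
  ∃ (P₁ : Scheme.{u}) (b : P₁ ⟶ P) (r' : ℕ) (D' : Fin r' → P₁.IdealSheafData),
      IsIntegral P₁ ∧ RelProj.IsHProjective (b ≫ q ≫ y) ∧ IsIso (b ∣_ (q ⁻¹ᵁ V)) ∧ Smooth (b ≫ q ≫ y) ∧
      LogNCD.IsNCD D' (b ≫ q ≫ y) ∧ b ⁻¹' (img s ∪ q ⁻¹' (supp D)) ⊆ supp D'

theorem concl_terminal (V : Y.Opens) {P : Scheme.{u}} {q : P ⟶ Y} {m : ℕ} {E : Fin m → P.IdealSheafData} {N : ℕ}
    {s : Fin N → (Y ⟶ P)} {c : Fin N → Fin r → Fin m} {a : Fin N → Fin N → Fin r → ℕ} (G : Good y D q E s c a)
    (h0 : ∀ i j l, i ≠ j → a i j l = 0) : Concl y D V q s := by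
  refine ⟨P, 𝟙 P, N + m, Fin.append (fun j => (s j).ker) E, G.int, ?_, ?_, ?_, ?_, ?_⟩
  · rw [Category.id_comp]; exact G.proj
  · infer_instance
  · rw [Category.id_comp]; exact G.smooth
  · rw [Category.id_comp]
    exact terminal G h0
  · intro x hx
    have hx' : x ∈ img s ∪ q ⁻¹' (supp D) := hx
    rcases hx' with h | h
    · obtain ⟨j, hj⟩ := Set.mem_iUnion.1 h
      have := G.closed j
      refine Set.mem_iUnion.2 ⟨Fin.castAdd m j, ?_⟩
      rw [Fin.append_left, SetLike.mem_coe, mem_support_iff_range]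
      exact hj
    · obtain ⟨l, hl⟩ := Set.mem_iUnion.1 h
      obtain ⟨e, he⟩ := G.cover x l hl
      refine Set.mem_iUnion.2 ⟨Fin.natAdd N e, ?_⟩
      rw [Fin.append_right]
      exact he

/-- **The induction.** -/
theorem concl (hD : IsNCD D y) [Nonempty Y] (V : Y.Opens) (hV : ∀ x ∈ V, ∀ l, x ∉ (D l).support) (n : ℕ) :
    ∀ {P : Scheme.{u}} (q : P ⟶ Y) {m : ℕ} (E : Fin m → P.IdealSheafData) {N : ℕ} (s : Fin N → (Y ⟶ P))
      (c : Fin N → Fin r → Fin m) (a : Fin N → Fin N → Fin r → ℕ), Good y D q E s c a → Ultra (LL D) a →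
      total a ≤ n → Concl y D V q s := by
  induction n using Nat.strong_induction_on with
  | _ n ih =>
  intro P q m E N s c a G hU hn
  by_cases h0 : ∀ i j l, i ≠ j → a i j l = 0
  · exact concl_terminal V G h0
  push Not at h0
  obtain ⟨i, j, l, hij, hl⟩ := h0
  obtain ⟨S, l₀, h00, h1, h2, h3⟩ := exists_cluster hU ⟨i, j, l, hij, by omega⟩
  have h3' : ∀ i j, i ∈ S → j ∉ S → ∀ x, x ∈ (D l₀).support → ∀ l, x ∈ (D l).support → a i j l = 0 :=
    fun i j hi hj x hx l hl => h3 i j hi hj _ ⟨x, rfl⟩ hx l hl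
  obtain ⟨i₀, -, hi₀, -, -⟩ := id h00
  have hPint := G.int
  set 𝓘 := (s i₀).ker ⊔ E (c i₀ l₀) with h𝓘
  obtain ⟨P', b, hb⟩ := Groth.Agent.Flat2C.BlowExist.exists_isBlowUp 𝓘
  have hEeff : IsEffCartierIdeal (E (c i₀ l₀)) := K911.Ncd.isEff_of_isNCD G.ncd _
  have h𝓘ne : 𝓘 ≠ ⊥ := by
    intro h
    apply ne_bot_of_isEff hEeff
    rw [← le_bot_iff, ← h]
    exact le_sup_right
  obtain ⟨hint, -, -⟩ := Groth.Agent.S2348.result 𝓘 h𝓘ne b hb
  have hbH := K165.LogRes.isHProjective_blowUp G.proj 𝓘 b hb
  have hprop : IsProper (q ≫ y) := (K165.LogRes.exists_ample G.proj).1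
  have hnoeth := K165.LogRes.isNoetherian_of_proper (q ≫ y)
  have hbp : IsProper b := Groth.Agent.Flat2C.BlowProper.isProper_of_isBlowUp hb (K165.LogRes.isFiniteTypeIdeal 𝓘)
  have hlift : ∀ j, ∃ t : Y ⟶ P', t ≫ b = s j := by
    intro j
    have : IsEffCartierIdeal (𝓘.comap (s j)) := by
      by_cases hj : j ∈ S
      · rw [h𝓘, G.comap_mem h1 hi₀ hj]
        exact Good.isEff_D hD l₀
      · rw [h𝓘, G.comap_notMem h3' hi₀ hj]
        exact EffCartier.isEff_top
    exact (hb.2 _ _ this).exists
  choose τ hτ using hlift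
  obtain ⟨T1, hT1⟩ := K972.Basic.exists_mul_eq (J := (E (c i₀ l₀)).comap b) hb.1
    (Scheme.IdealSheafData.comap_mono b le_sup_right)
  have G' := G.step lb hD hU.symm h1 h2 h3' hi₀ hb hT1 hτ hint hbH inferInstance
  obtain ⟨P₁, b₂, r', D', e1, e2, e3, e4, e5, e6⟩ := ih (total (step a S l₀))
    ((total_step_lt h00 h1).trans_le hn) (b ≫ q) _ τ _ _ G' (ultra_step hU h1 h2 h3) le_rfl
  refine ⟨P₁, b₂ ≫ b, r', D', e1, ?_, ?_, ?_, ?_, ?_⟩
  · rw [Category.assoc]
    rw [Category.assoc] at e2
    exact e2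
  · have e3' : IsIso (b₂ ∣_ b ⁻¹ᵁ q ⁻¹ᵁ V) := e3
    have : IsIso (b ∣_ q ⁻¹ᵁ V) := by
      refine isIso_morphismRestrict_compl_support hb _ ?_
      rw [Set.disjoint_left]
      intro x hx hx'
      exact hV (q x) hx l₀ (G.centre_support i₀ l₀ hx').2
    rw [morphismRestrict_comp]
    exact IsIso.comp_isIso' e3' this
  · rw [Category.assoc]
    rw [Category.assoc] at e4
    exact e4
  · rw [Category.assoc]
    rw [Category.assoc] at e5
    exact e5
  · refine subset_trans ?_ e6
    intro w hw
    have hw' : b (b₂ w) ∈ img s ∪ q ⁻¹' (supp D) := by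
      rw [← Scheme.Hom.comp_apply]
      exact hw
    change b₂ w ∈ img τ ∪ (b ≫ q) ⁻¹' (supp D)
    rcases hw' with h | h
    · obtain ⟨j, hj⟩ := Set.mem_iUnion.1 h
      have hcl := G.closed j
      have hcl' := G'.closed j
      have hmem : b₂ w ∈ ((s j).ker.comap b).support := by
        rw [mem_support_comap, mem_support_iff_range]
        exact hj
      by_cases hjS : j ∈ S
      · obtain ⟨hmul, -, -⟩ := G.mem_step lb hD h1 hi₀ hb hT1 hτ hjS
        rw [← hmul, mem_support_mul, mem_support_iff_range] at hmem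
        rcases hmem with hmem | hmem
        · exact Or.inl (Set.mem_iUnion.2 ⟨j, hmem⟩)
        · rw [mem_support_comap] at hmem
          refine Or.inr (Set.mem_iUnion.2 ⟨l₀, ?_⟩)
          have := (G.centre_support i₀ l₀ hmem).2
          rw [Scheme.Hom.comp_apply]
          exact this
      · rw [← G.ker_notMem h3' hi₀ hb hτ hjS, mem_support_iff_range] at hmem
        exact Or.inl (Set.mem_iUnion.2 ⟨j, hmem⟩)
    · refine Or.inr ?_
      change (b ≫ q) (b₂ w) ∈ supp D
      rw [Scheme.Hom.comp_apply]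
      exact h

end K284.Main
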