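import Groth.Agent.DelIll.K890.Ncd
import Groth.Agent.Vanish.K660.Kol
import Groth.Agent.Vanish.K661.NcdRes

/-!
# Normal crossings at a point: local comparison, étale restriction, subfamilies
-/

set_option autoImplicit false
universe u

open CategoryTheory CategoryTheory.Limits AlgebraicGeometry TopologicalSpace Opposite

namespace K284.NcdPt

open LogNCD K911.Ncd K890.Ncd Groth.Agent.Divis.IdealComap Groth.Agent.Divis.BlowChart2
  Groth.Agent.Pi1.H403.RelSNCBase

variable {X X' S : Scheme.{u}} {f : X ⟶ S}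

theorem support_eq_of_ideal {I J : X.IdealSheafData} {x : X} {W : X.Opens} (hx : x ∈ W)
    (h : ∀ U : X.affineOpens, U.1 ≤ W → I.ideal U = J.ideal U) : x ∈ I.support ↔ x ∈ J.support := by
  obtain ⟨U, hxU, hUW⟩ := exists_affine_mem x W hx
  rw [Scheme.IdealSheafData.mem_support_iff_of_mem hxU, Scheme.IdealSheafData.mem_support_iff_of_mem hxU, h U hUW]

/-- Comparison of two families near a point. -/
theorem ncdAt_of_local {r r' : ℕ} {D : Fin r → X.IdealSheafData} {D' : Fin r' → X.IdealSheafData} {x : X}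
    (h : NcdAt D f x) (W₀ : X.Opens) (hxW₀ : x ∈ W₀) (τ : Fin r' → Option (Fin r))
    (h0 : ∀ i, τ i = none → x ∉ (D' i).support)
    (h1 : ∀ i k, τ i = some k → ∀ U : X.affineOpens, U.1 ≤ W₀ → (D' i).ideal U = (D k).ideal U)
    (hinj : ∀ i j k, τ i = some k → τ j = some k → i = j) : NcdAt D' f x := by
  classical
  intro hne
  have hne' : Nonempty (Through D x) := by
    obtain ⟨i, hi⟩ := hne
    rcases hτ : τ i with _ | k
    · exact (h0 i hτ hi).elim
    · exact ⟨⟨k, (support_eq_of_ideal hxW₀ (h1 i k hτ)).1 hi⟩⟩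
  obtain ⟨W, hxW, n, e, he, hc⟩ := exists_chartOn h hne'
  let O : X.Opens := ⟨⋂ i : {i : Fin r' // x ∉ (D' i).support}, ((D' i.1).support : Set X)ᶜ,
    isOpen_iInter_of_finite fun i => (D' i.1).support.isClosed.isOpen_compl⟩
  have hxO : x ∈ O := Set.mem_iInter.2 fun i => i.2
  have hle : W ⊓ W₀ ⊓ O ≤ W := inf_le_left.trans inf_le_left
  obtain ⟨v, hv, hI⟩ := chartOn_of_le hle hc
  refine ncdAt_of_chartOn (W := W ⊓ W₀ ⊓ O) (e := fun i => (τ i).bind e) ?_ ⟨v, hv, fun i U hU => ?_⟩
    ⟨⟨hxW, hxW₀⟩, hxO⟩ hne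
  · intro i i' j hi hi'
    dsimp only at hi hi'
    rcases hτ : τ i with _ | k
    · rw [hτ] at hi; simp at hi
    rcases hτ' : τ i' with _ | k'
    · rw [hτ'] at hi'; simp at hi'
    rw [hτ, Option.bind_some] at hi
    rw [hτ', Option.bind_some] at hi'
    have := he k k' j hi hi'
    subst this
    exact hinj i i' k hτ hτ'
  · rcases hτ : τ i with _ | k
    · have : eqn v (fun i => (τ i).bind e) i = 1 := by
        unfold eqn; dsimp only; rw [hτ]; rfl
      rw [this, map_one, Ideal.span_singleton_one]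
      refine ideal_eq_top_of_disjoint _ _ fun y hy hyi => ?_
      exact Set.mem_iInter.1 (hU hy).2 ⟨i, h0 i hτ⟩ hyi
    · have : eqn v (fun i => (τ i).bind e) i = eqn v e k := by
        unfold eqn; dsimp only; rw [hτ]; rfl
      rw [this, h1 i k hτ U (hU.trans (inf_le_left.trans inf_le_right))]
      exact hI k U hU

theorem ncdAt_of_map {r r' : ℕ} {D : Fin r → X.IdealSheafData} {D' : Fin r' → X.IdealSheafData} {x : X}
    (h : NcdAt D f x) (τ : Fin r' → Option (Fin r)) (h0 : ∀ i, τ i = none → x ∉ (D' i).support)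
    (h1 : ∀ i k, τ i = some k → D' i = D k) (hinj : ∀ i j k, τ i = some k → τ j = some k → i = j) :
    NcdAt D' f x :=
  ncdAt_of_local h ⊤ trivial τ h0 (fun i k hik U _ => by rw [h1 i k hik]) hinj

/-- Drop the second member. -/
theorem isNCD_drop_second {m : ℕ} {A B : X.IdealSheafData} {G : Fin m → X.IdealSheafData}
    (h : IsNCD (Fin.cons A (Fin.cons B G : Fin (m + 1) → X.IdealSheafData) : Fin (m + 2) → X.IdealSheafData) f) :
    IsNCD (Fin.cons A G : Fin (m + 1) → X.IdealSheafData) f := by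
  intro x
  refine ncdAt_of_map (h x) (Fin.cons (some 0) (fun e : Fin m => some e.succ.succ)) ?_ ?_ ?_
  · intro k h
    rcases Fin.eq_zero_or_eq_succ k with rfl | ⟨e, rfl⟩
    · rw [Fin.cons_zero] at h; cases h
    · rw [Fin.cons_succ] at h; cases h
  · intro k k' h
    rcases Fin.eq_zero_or_eq_succ k with rfl | ⟨e, rfl⟩
    · rw [Fin.cons_zero, Option.some.injEq] at h
      rw [← h, Fin.cons_zero, Fin.cons_zero]
    · rw [Fin.cons_succ, Option.some.injEq] at h
      rw [← h, Fin.cons_succ, Fin.cons_succ, Fin.cons_succ]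
  · intro k k' k'' h5 h6
    rcases Fin.eq_zero_or_eq_succ k with rfl | ⟨e, rfl⟩ <;>
      rcases Fin.eq_zero_or_eq_succ k' with rfl | ⟨e', rfl⟩
    · rfl
    · rw [Fin.cons_zero, Option.some.injEq] at h5
      rw [Fin.cons_succ, ← h5, Option.some.injEq] at h6
      exact (Fin.succ_ne_zero _ h6).elim
    · rw [Fin.cons_zero, Option.some.injEq] at h6
      rw [Fin.cons_succ, ← h6, Option.some.injEq] at h5
      exact (Fin.succ_ne_zero _ h5).elim
    · rw [Fin.cons_succ, Option.some.injEq] at h5 h6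
      rw [Fin.succ_injective _ (Fin.succ_injective _ (h5.trans h6.symm))]

/-- The reindexing which exchanges the first two members. -/
def sw (m : ℕ) : Fin (m + 2) → Option (Fin (m + 2)) :=
  Fin.cons (some (Fin.succ 0)) (Fin.cons (some 0) (fun e : Fin m => some e.succ.succ) :
    Fin (m + 1) → Option (Fin (m + 2)))

theorem sw_zero (m : ℕ) : sw m 0 = some (Fin.succ 0) := rfl

theorem sw_one (m : ℕ) : sw m (Fin.succ 0) = some 0 := rfl

theorem sw_succ (m : ℕ) (e : Fin m) : sw m e.succ.succ = some e.succ.succ := rfl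

theorem fin_cases₂ {m : ℕ} (k : Fin (m + 2)) : k = 0 ∨ k = Fin.succ 0 ∨ ∃ e : Fin m, k = e.succ.succ := by
  rcases Fin.eq_zero_or_eq_succ k with rfl | ⟨k, rfl⟩
  · exact Or.inl rfl
  · rcases Fin.eq_zero_or_eq_succ k with rfl | ⟨e, rfl⟩
    · exact Or.inr (Or.inl rfl)
    · exact Or.inr (Or.inr ⟨e, rfl⟩)

/-- Exchange the first two members. -/
theorem isNCD_swap {m : ℕ} {A B : X.IdealSheafData} {G : Fin m → X.IdealSheafData}
    (h : IsNCD (Fin.cons A (Fin.cons B G : Fin (m + 1) → X.IdealSheafData) : Fin (m + 2) → X.IdealSheafData) f) :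
    IsNCD (Fin.cons B (Fin.cons A G : Fin (m + 1) → X.IdealSheafData) : Fin (m + 2) → X.IdealSheafData) f := by
  have hne : ∀ e : Fin m, e.succ.succ ≠ (Fin.succ 0 : Fin (m + 2)) := fun e h =>
    Fin.succ_ne_zero e (Fin.succ_injective _ h)
  intro x
  refine ncdAt_of_map (h x) (sw m) ?_ ?_ ?_
  · intro k h
    rcases fin_cases₂ k with rfl | rfl | ⟨e, rfl⟩
    · rw [sw_zero] at h; cases h
    · rw [sw_one] at h; cases h
    · rw [sw_succ] at h; cases h
  · intro k k' h
    rcases fin_cases₂ k with rfl | rfl | ⟨e, rfl⟩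
    · rw [sw_zero, Option.some.injEq] at h
      rw [← h, Fin.cons_zero, Fin.cons_succ, Fin.cons_zero]
    · rw [sw_one, Option.some.injEq] at h
      rw [← h, Fin.cons_zero, Fin.cons_succ, Fin.cons_zero]
    · rw [sw_succ, Option.some.injEq] at h
      rw [← h, Fin.cons_succ, Fin.cons_succ, Fin.cons_succ, Fin.cons_succ]
  · intro k k' k'' h5 h6
    rcases fin_cases₂ k with rfl | rfl | ⟨e, rfl⟩ <;> rcases fin_cases₂ k' with rfl | rfl | ⟨e', rfl⟩
    · rfl
    · rw [sw_zero, Option.some.injEq] at h5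
      rw [sw_one, Option.some.injEq] at h6
      exact (Fin.succ_ne_zero _ (h5.trans h6.symm)).elim
    · rw [sw_zero, Option.some.injEq] at h5
      rw [sw_succ, Option.some.injEq] at h6
      exact (hne _ (h6.trans h5.symm)).elim
    · rw [sw_one, Option.some.injEq] at h5
      rw [sw_zero, Option.some.injEq] at h6
      exact (Fin.succ_ne_zero _ (h6.trans h5.symm)).elim
    · rfl
    · rw [sw_one, Option.some.injEq] at h5
      rw [sw_succ, Option.some.injEq] at h6
      exact (Fin.succ_ne_zero _ (h6.trans h5.symm)).elim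
    · rw [sw_succ, Option.some.injEq] at h5
      rw [sw_zero, Option.some.injEq] at h6
      exact (hne _ (h5.trans h6.symm)).elim
    · rw [sw_succ, Option.some.injEq] at h5
      rw [sw_one, Option.some.injEq] at h6
      exact (Fin.succ_ne_zero _ (h5.trans h6.symm)).elim
    · rw [sw_succ, Option.some.injEq] at h5 h6
      exact h5.trans h6.symm

/-- Charts pull back along morphisms étale over the chart. -/
theorem chartOn_comap {r : ℕ} {D : Fin r → X.IdealSheafData} (g : X' ⟶ X) {W : X.Opens} [Etale (g ∣_ W)] {n : ℕ}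
    {e : Fin r → Option (Fin n)} (h : ChartOn D f W e) :
    ChartOn (fun i => (D i).comap g) (g ≫ f) (g ⁻¹ᵁ W) e := by
  obtain ⟨v, hv, hI⟩ := h
  refine ⟨fun j => g.app W (v j), ?_, fun i U' hU' => ?_⟩
  · have h1 := AffineSpace.comp_homOfVector (fun i => fn W (v i)) (g ∣_ W) (W.ι ≫ f)
    have h2 : (g ∣_ W) ≫ W.ι ≫ f = (g ⁻¹ᵁ W).ι ≫ g ≫ f := by
      rw [← Category.assoc, morphismRestrict_ι, Category.assoc]
    rw [h2] at h1
    have h3 : (fun i => fn (g ⁻¹ᵁ W) (g.app W (v i))) = (g ∣_ W).appTop ∘ fun i => fn W (v i) := by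
      funext i
      exact (restrict_fn g W (v i)).symm
    rw [h3, ← h1]
    infer_instance
  · refine ideal_eq_span_of_local U' _ fun x hx => ?_
    obtain ⟨U, V', hfx, hxV', hV', hU, eV⟩ := exists_affine_le g x U'.1 hx W (hU' hx)
    refine ⟨V', hV', hxV', ?_⟩
    rw [ideal_comap _ g U V' eV, hI i U hU, Ideal.map_span, Set.image_singleton, ← app_eqn]
    congr 2
    change (X.presheaf.map (homOfLE hU).op ≫ g.appLE U.1 V'.1 eV) (eqn v e i) =
      (g.app W ≫ X'.presheaf.map (homOfLE hU').op ≫ X'.presheaf.map (homOfLE hV').op) (eqn v e i)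
    rw [Scheme.Hom.map_appLE, ← X'.presheaf.map_comp, Scheme.Hom.appLE]
    rfl

theorem etale_restrict_of_le (g : X' ⟶ X) {W U : X.Opens} (h : W ≤ U) [Etale (g ∣_ U)] : Etale (g ∣_ W) := by
  have h1 : IsPullback (g ∣_ W) (X'.homOfLE (g.preimage_mono h)) (X.homOfLE h) (g ∣_ U) := by
    refine IsPullback.of_bot ?_ ?_ (isPullback_morphismRestrict g U)
    · rw [Scheme.homOfLE_ι, Scheme.homOfLE_ι]
      exact isPullback_morphismRestrict g W
    · rw [← cancel_mono U.ι]
      simp
  exact MorphismProperty.of_isPullback h1.flip inferInstance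

/-- Normal crossings at a point pull back along morphisms étale over a neighbourhood. -/
theorem ncdAt_comap {r : ℕ} {D : Fin r → X.IdealSheafData} (g : X' ⟶ X) (U : X.Opens) [Etale (g ∣_ U)] {x' : X'}
    (hx : g x' ∈ U) (h : NcdAt D f (g x')) : NcdAt (fun i => (D i).comap g) (g ≫ f) x' := by
  intro hne
  obtain ⟨W, hxW, n, e, he, hc⟩ := exists_chartOn h (hne.map (throughEquiv D g x'))
  have := etale_restrict_of_le g (inf_le_right : W ⊓ U ≤ U)
  have h1 := chartOn_of_le (inf_le_left : W ⊓ U ≤ W) hc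
  exact ncdAt_of_chartOn he (chartOn_comap g h1) (x := x') ⟨hxW, hx⟩ hne

/-- Restriction of a member of the family to another one is effective Cartier. -/
theorem isEff_comap_subschemeι [Smooth f] {r : ℕ} {D : Fin r → X.IdealSheafData} (hD : IsNCD D f) {i j : Fin r}
    (hij : i ≠ j) : BlowUp.IsEffCartierIdeal ((D i).comap (D j).subschemeι) := by
  have h1 : IsNCD (Fin.snoc (α := fun _ => X.IdealSheafData) (fun _ : Fin 1 => D i) (D j)) f := by
    have h2 : (Fin.snoc (α := fun _ => X.IdealSheafData) (fun _ : Fin 1 => D i) (D j) : Fin 2 → X.IdealSheafData) =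
        fun k => D (![i, j] k) := by
      funext k
      fin_cases k
      · rfl
      · rfl
    rw [h2]
    refine K660.Kol.isNCD_comp hD (![i, j]) ?_
    intro a b hab
    fin_cases a <;> fin_cases b <;> simp_all
  exact isEff_of_isNCD (K661.NcdRes.isNCD_restrict f (fun _ : Fin 1 => D i) (D j) h1) 0

end K284.NcdPt
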