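import Groth.Agent.ModPair.K972.Basic
import Groth.Agent.Krr.H501.LiftReg
import Groth.Agent.Sga7.H543.Lift

/-!
# Sections and blow-ups: formal calculus

Lifts of closed immersions to blow-ups; the kernel of the lift is the strict transform of the kernel.
-/

set_option autoImplicit false
universe u

open CategoryTheory CategoryTheory.Limits AlgebraicGeometry BlowUp

namespace K284.Sect

open Groth.Agent.Divis Groth.Agent.Divis.IdealComap Groth.Agent.Divis.BlowUpFormal

variable {X Y P P' T : Scheme.{u}}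

theorem le_ker_iff (A : P.IdealSheafData) (f : Y ⟶ P) : A ≤ f.ker ↔ A.comap f = ⊥ := by
  rw [← Scheme.IdealSheafData.map_bot, Scheme.IdealSheafData.le_map_iff_comap_le, le_bot_iff]

theorem comap_ker_self (f : Y ⟶ P) : f.ker.comap f = ⊥ := (le_ker_iff _ _).1 le_rfl

theorem comap_sup_ker (j : Y ⟶ P) (E : P.IdealSheafData) : (j.ker ⊔ E).comap j = E.comap j := by
  rw [Scheme.IdealSheafData.comap_sup, comap_ker_self, bot_sup_eq]

/-- cancellation for the zero ideal -/
theorem eq_bot_of_mul_eq_bot {I E : X.IdealSheafData} (hE : IsEffCartierIdeal E) (h : I * E = ⊥) : I = ⊥ := by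
  apply K972.Basic.eq_of_mul_eq_mul hE
  rw [h]
  exact (Scheme.IdealSheafData.ext (by
    funext U
    simp)).symm

theorem eq_top_of_mul_eq_self {I E : X.IdealSheafData} (hE : IsEffCartierIdeal E) (h : I * E = E) : I = ⊤ := by
  apply K972.Basic.eq_of_mul_eq_mul hE
  rw [h, Scheme.IdealSheafData.top_mul]

/-- Factorisation through a closed immersion. -/
theorem exists_factor (σ : Y ⟶ P) [IsClosedImmersion σ] (g : T ⟶ P) (h : σ.ker.comap g = ⊥) :
    ∃ u : T ⟶ Y, u ≫ σ = g :=
  ⟨IsClosedImmersion.lift σ g ((le_ker_iff _ _).2 h), IsClosedImmersion.lift_fac _ _ _⟩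

/-- **The kernel of the lift of a closed immersion to a blow-up.** -/
theorem ker_lift (σ : Y ⟶ P) [IsClosedImmersion σ] (𝓘 : P.IdealSheafData) {b : P' ⟶ P} (hb : IsBlowUp b 𝓘)
    (τ : Y ⟶ P') (hτ : τ ≫ b = σ) (A : P'.IdealSheafData) (hA1 : A.comap τ = ⊥)
    (hA2 : σ.ker.comap (A.subschemeι ≫ b) = ⊥) (hN : IsEffCartierIdeal (𝓘.comap (A.subschemeι ≫ b))) :
    τ.ker = A := by
  apply le_antisymm
  · obtain ⟨u, hu⟩ := exists_factor σ (A.subschemeι ≫ b) hA2
    obtain ⟨h, -, huniq⟩ := hb.2 _ _ hN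
    have h1 : u ≫ τ = A.subschemeι := by
      rw [huniq (u ≫ τ) (by change (u ≫ τ) ≫ b = _; rw [Category.assoc, hτ, hu]), huniq A.subschemeι rfl]
    have h2 := Scheme.Hom.le_ker_comp u τ
    rwa [h1, Scheme.IdealSheafData.ker_subschemeι] at h2
  · rwa [le_ker_iff]

/-- The kernel of the lift is the strict transform. -/
theorem ker_lift_of_mul (σ : Y ⟶ P) [IsClosedImmersion σ] (𝓘 : P.IdealSheafData) {b : P' ⟶ P} (hb : IsBlowUp b 𝓘)
    (τ : Y ⟶ P') (hτ : τ ≫ b = σ) (hY : IsEffCartierIdeal (𝓘.comap σ)) (A : P'.IdealSheafData)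
    (hA : A * 𝓘.comap b = σ.ker.comap b) (hN : IsEffCartierIdeal ((𝓘.comap b).comap A.subschemeι)) :
    τ.ker = A := by
  refine ker_lift σ 𝓘 hb τ hτ A ?_ ?_ ?_
  · apply eq_bot_of_mul_eq_bot hY
    rw [← hτ, Scheme.IdealSheafData.comap_comp 𝓘, ← comap_mul, hA, ← Scheme.IdealSheafData.comap_comp, hτ,
      comap_ker_self]
  · rw [Scheme.IdealSheafData.comap_comp, ← hA, comap_mul]
    have h1 : A.comap A.subschemeι = ⊥ := by
      have := comap_ker_self A.subschemeι
      rwa [Scheme.IdealSheafData.ker_subschemeι] at this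
    rw [h1]
    exact Scheme.IdealSheafData.ext (by
      funext U
      simp)
  · rwa [Scheme.IdealSheafData.comap_comp]

/-- The kernel of the lift when the centre misses the closed subscheme. -/
theorem ker_lift_of_disjoint (σ : Y ⟶ P) [IsClosedImmersion σ] (𝓘 : P.IdealSheafData) {b : P' ⟶ P}
    (hb : IsBlowUp b 𝓘) (τ : Y ⟶ P') (hτ : τ ≫ b = σ) (hY : 𝓘.comap σ = ⊤) : τ.ker = σ.ker.comap b := by
  have h2 : σ.ker.comap ((σ.ker.comap b).subschemeι ≫ b) = ⊥ := by
    rw [Scheme.IdealSheafData.comap_comp]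
    have := comap_ker_self (σ.ker.comap b).subschemeι
    rwa [Scheme.IdealSheafData.ker_subschemeι] at this
  refine ker_lift σ 𝓘 hb τ hτ _ ?_ h2 ?_
  · rw [← Scheme.IdealSheafData.comap_comp, hτ, comap_ker_self]
  · obtain ⟨u, hu⟩ := exists_factor σ _ h2
    rw [← hu, Scheme.IdealSheafData.comap_comp, hY, Scheme.IdealSheafData.comap_top]
    exact EffCartier.isEff_top

/-- Two sections agree on the coincidence scheme. -/
theorem comp_eq_of_comap (q : P ⟶ Y) (s t : Y ⟶ P) [IsClosedImmersion s] (hs : s ≫ q = 𝟙 Y) (ht : t ≫ q = 𝟙 Y)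
    (g : T ⟶ Y) (h : s.ker.comap (g ≫ t) = ⊥) : g ≫ s = g ≫ t := by
  obtain ⟨u, hu⟩ := exists_factor s (g ≫ t) h
  have h1 : u = g := by
    have := congr($hu ≫ q)
    rwa [Category.assoc, hs, Category.comp_id, Category.assoc, ht, Category.comp_id] at this
  rw [← hu, h1]

/-- The coincidence ideal of two sections is symmetric. -/
theorem coincidence_symm (q : P ⟶ Y) (s t : Y ⟶ P) [IsClosedImmersion s] [IsClosedImmersion t]
    (hs : s ≫ q = 𝟙 Y) (ht : t ≫ q = 𝟙 Y) : s.ker.comap t = t.ker.comap s := by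
  have key : ∀ (s t : Y ⟶ P) [IsClosedImmersion s] [IsClosedImmersion t] (_ : s ≫ q = 𝟙 Y) (_ : t ≫ q = 𝟙 Y),
      t.ker.comap s ≤ s.ker.comap t := by
    intro s t _ _ hs ht
    have h1 := comp_eq_of_comap q s t hs ht (s.ker.comap t).subschemeι (by
      rw [Scheme.IdealSheafData.comap_comp]
      have := comap_ker_self (s.ker.comap t).subschemeι
      rwa [Scheme.IdealSheafData.ker_subschemeι] at this)
    have h2 : (t.ker.comap s).comap (s.ker.comap t).subschemeι = ⊥ := by
      rw [← Scheme.IdealSheafData.comap_comp, h1, Scheme.IdealSheafData.comap_comp, comap_ker_self,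
        Scheme.IdealSheafData.comap_bot]
    rwa [← le_ker_iff, Scheme.IdealSheafData.ker_subschemeι] at h2
  exact le_antisymm (key t s ht hs) (key s t hs ht)

/-- The centres of the sections of a cluster coincide. -/
theorem sup_le_of_coincidence (q : P ⟶ Y) (s t : Y ⟶ P) [IsClosedImmersion s] [IsClosedImmersion t]
    (hs : s ≫ q = 𝟙 Y) (ht : t ≫ q = 𝟙 Y) (E : P.IdealSheafData) (D : Y.IdealSheafData)
    (hEs : E.comap s = D) (hst : s.ker.comap t ≤ D) : t.ker ⊔ E ≤ s.ker ⊔ E := by
  refine sup_le ?_ le_sup_right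
  -- `V(s.ker ⊔ E) → P` factors through `V(D) → Y → P` along `s`
  set g := (s.ker ⊔ E).subschemeι with hg
  have h0 : (s.ker ⊔ E).comap g = ⊥ := by
    have := comap_ker_self g
    rwa [hg, Scheme.IdealSheafData.ker_subschemeι] at this
  rw [Scheme.IdealSheafData.comap_sup, sup_eq_bot_iff] at h0
  obtain ⟨u, hu⟩ := exists_factor s g h0.1
  have h1 : D.comap u = ⊥ := by
    rw [← hEs, ← Scheme.IdealSheafData.comap_comp, hu, h0.2]
  have h2 : s.ker.comap (u ≫ t) = ⊥ := by
    rw [Scheme.IdealSheafData.comap_comp, ← le_bot_iff, ← h1]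
    exact Scheme.IdealSheafData.comap_mono u hst
  have h3 := comp_eq_of_comap q s t hs ht u h2
  have h4 : t.ker.comap g = ⊥ := by
    rw [← hu, h3, Scheme.IdealSheafData.comap_comp, comap_ker_self, Scheme.IdealSheafData.comap_bot]
  rwa [← le_ker_iff, hg, Scheme.IdealSheafData.ker_subschemeι] at h4

theorem mem_support_iff_range (s : Y ⟶ P) [IsClosedImmersion s] (x : P) :
    x ∈ s.ker.support ↔ x ∈ Set.range s := by
  rw [← SetLike.mem_coe, Scheme.Hom.support_ker, s.isClosedEmbedding.isClosed_range.closure_eq]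

theorem mem_support_comap (I : X.IdealSheafData) (g : Y ⟶ X) (y : Y) :
    y ∈ (I.comap g).support ↔ g y ∈ I.support := by
  rw [Scheme.IdealSheafData.support_comap]
  rfl

theorem mem_support_sup (I J : X.IdealSheafData) (x : X) :
    x ∈ (I ⊔ J).support ↔ x ∈ I.support ∧ x ∈ J.support := by
  rw [Scheme.IdealSheafData.support_sup]
  rfl

theorem mem_support_mul (I J : X.IdealSheafData) (x : X) :
    x ∈ (I * J).support ↔ x ∈ I.support ∨ x ∈ J.support := by
  rw [Scheme.IdealSheafData.support_mul]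
  rfl

theorem eq_top_iff_support (I : X.IdealSheafData) : I = ⊤ ↔ ∀ x, x ∉ I.support := by
  rw [← Scheme.IdealSheafData.support_eq_bot_iff]
  constructor
  · intro h x hx
    rw [h] at hx
    exact hx
  · intro h
    ext x
    exact ⟨fun hx => (h x hx).elim, fun hx => hx.elim⟩

theorem notMem_support_one (x : X) : x ∉ (1 : X.IdealSheafData).support := by
  rw [Scheme.IdealSheafData.one_eq_top, Scheme.IdealSheafData.support_top]
  exact fun h => h

theorem mem_support_prod {ι : Type*} (s : Finset ι) (D : ι → X.IdealSheafData) (a : ι → ℕ) (x : X) :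
    x ∈ (∏ l ∈ s, D l ^ a l).support ↔ ∃ l ∈ s, a l ≠ 0 ∧ x ∈ (D l).support := by
  classical
  induction s using Finset.induction_on with
  | empty =>
    rw [Finset.prod_empty]
    simp only [Finset.notMem_empty, false_and, exists_false, iff_false]
    exact notMem_support_one x
  | insert l s hl ih =>
    rw [Finset.prod_insert hl, mem_support_mul, ih]
    have h1 : ∀ n : ℕ, x ∈ (D l ^ n).support ↔ n ≠ 0 ∧ x ∈ (D l).support := by
      intro n
      induction n with
      | zero =>
        rw [pow_zero]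
        simp only [ne_eq, not_true_eq_false, false_and, iff_false]
        exact notMem_support_one x
      | succ n ihn =>
        rw [pow_succ, mem_support_mul, ihn]
        constructor
        · rintro (h | h)
          · exact ⟨by omega, h.2⟩
          · exact ⟨by omega, h⟩
        · exact fun h => Or.inr h.2
    rw [h1]
    constructor
    · rintro (h | ⟨m, hm, h⟩)
      · exact ⟨l, Finset.mem_insert_self _ _, h⟩
      · exact ⟨m, Finset.mem_insert_of_mem hm, h⟩
    · rintro ⟨m, hm, h⟩
      rcases Finset.mem_insert.1 hm with rfl | hm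
      · exact Or.inl h
      · exact Or.inr ⟨m, hm, h⟩

end K284.Sect
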