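import Groth.Agent.Resolve.K284.Sect
import Groth.Agent.Resolve.K284.Comb
import Groth.Agent.Resolve.K284.NcdPt
import Groth.Agent.Resolve.K84.Iface

/-!
# Separation of sections: the state and one step
-/

set_option autoImplicit false
universe u

open CategoryTheory CategoryTheory.Limits AlgebraicGeometry BlowUp

namespace K284.Step

open K284.Sect K284.NcdPt K284.Comb LogNCD K890.Ncd Groth.Agent.Divis Groth.Agent.Divis.IdealComap
  Groth.Agent.Divis.BlowUpFormal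

variable {K : Type u} [Field K] {Y : Scheme.{u}}

/-- The invariants. -/
structure Good (y : Y ⟶ Spec (CommRingCat.of K)) {r : ℕ} (D : Fin r → Y.IdealSheafData) {P : Scheme.{u}}
    (q : P ⟶ Y) {m : ℕ} (E : Fin m → P.IdealSheafData) {N : ℕ} (s : Fin N → (Y ⟶ P))
    (c : Fin N → Fin r → Fin m) (a : Fin N → Fin N → Fin r → ℕ) : Prop where
  int : IsIntegral P
  proj : RelProj.IsHProjective (q ≫ y)
  smooth : Smooth (q ≫ y)
  sec : ∀ j, s j ≫ q = 𝟙 Y
  closed : ∀ j, IsClosedImmersion (s j)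
  ncd : IsNCD E (q ≫ y)
  ncds : ∀ j, IsNCD (Fin.cons (s j).ker E : Fin (m + 1) → P.IdealSheafData) (q ≫ y)
  inj : ∀ j, Function.Injective (c j)
  ec : ∀ j l, (E (c j l)).comap (s j) = D l
  et : ∀ j e, (∀ l, c j l ≠ e) → (E e).comap (s j) = ⊤
  ex : ∀ i j, i ≠ j → (s i).ker.comap (s j) = ∏ l, D l ^ a i j l
  same : ∀ i j l, i ≠ j → 1 ≤ a i j l → c i l = c j l
  cover : ∀ x l, q x ∈ (D l).support → ∃ e, x ∈ (E e).support

/-- The blow-up of the intersection of two members of a normal crossing family. -/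
def LB (K : Type u) [Field K] : Prop :=
  ∀ (P P1 : Scheme.{u}) (f : P ⟶ Spec (CommRingCat.of K)) (r : ℕ) (D : Fin r → P.IdealSheafData),
    Smooth f → IsNCD D f → ∀ (a c : Fin r), a ≠ c → ∀ (b : P1 ⟶ P), IsBlowUp b (D a ⊔ D c) →
    ∀ (A1 C1 : P1.IdealSheafData), A1 * (D a ⊔ D c).comap b = (D a).comap b →
      C1 * (D a ⊔ D c).comap b = (D c).comap b →
      Smooth (b ≫ f) ∧ IsNCD (Fin.cons ((D a ⊔ D c).comap b)
        (Function.update (Function.update (fun i => (D i).comap b) a A1) c C1) :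
          Fin (r + 1) → P1.IdealSheafData) (b ≫ f)

section Lemmas

variable {X : Scheme.{u}}

theorem prod_le {r : ℕ} (D : Fin r → X.IdealSheafData) (a : Fin r → ℕ) {l : Fin r} (h : 1 ≤ a l) :
    ∏ l, D l ^ a l ≤ D l := by
  classical
  rw [← Finset.mul_prod_erase Finset.univ _ (Finset.mem_univ l)]
  obtain ⟨n, hn⟩ := Nat.exists_eq_add_of_le h
  rw [hn, pow_add, pow_one, mul_assoc]
  calc D l * (D l ^ n * _) ≤ D l * ⊤ := by gcongr; exact le_top
    _ = D l := Scheme.IdealSheafData.mul_top _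

theorem prod_step {r : ℕ} (D : Fin r → X.IdealSheafData) (a : Fin r → ℕ) {l₀ : Fin r} (h : 1 ≤ a l₀) :
    (∏ l, D l ^ (if l = l₀ then a l - 1 else a l)) * D l₀ = ∏ l, D l ^ a l := by
  classical
  rw [← Finset.mul_prod_erase Finset.univ _ (Finset.mem_univ l₀),
    ← Finset.mul_prod_erase Finset.univ (fun l => D l ^ a l) (Finset.mem_univ l₀)]
  obtain ⟨n, hn⟩ := Nat.exists_eq_add_of_le h
  have h1 : ∏ l ∈ Finset.univ.erase l₀, D l ^ (if l = l₀ then a l - 1 else a l) =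
      ∏ l ∈ Finset.univ.erase l₀, D l ^ a l := by
    refine Finset.prod_congr rfl fun l hl => ?_
    rw [if_neg (Finset.ne_of_mem_erase hl)]
  rw [h1, if_pos rfl, hn]
  have h2 : 1 + n - 1 = n := by omega
  rw [h2, pow_add, pow_one]
  ring

theorem cons_update {n : ℕ} {α : Type*} (A x : α) (g : Fin n → α) (e : Fin n) :
    (Fin.cons A (Function.update g e x) : Fin (n + 1) → α) = Function.update (Fin.cons A g) e.succ x := by
  rw [Fin.cons_update]

end Lemmas

section OneStep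

variable {y : Y ⟶ Spec (CommRingCat.of K)} {r : ℕ} {D : Fin r → Y.IdealSheafData} {P : Scheme.{u}}
    {q : P ⟶ Y} {m : ℕ} {E : Fin m → P.IdealSheafData} {N : ℕ} {s : Fin N → (Y ⟶ P)}
    {c : Fin N → Fin r → Fin m} {a : Fin N → Fin N → Fin r → ℕ}

theorem Good.c_eq (G : Good y D q E s c a) {S : Finset (Fin N)} {l₀ : Fin r}
    (h1 : ∀ i j, i ∈ S → j ∈ S → i ≠ j → 1 ≤ a i j l₀) {i i₀ : Fin N} (hi₀ : i₀ ∈ S) (hi : i ∈ S) :
    c i l₀ = c i₀ l₀ := by
  by_cases h : i = i₀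
  · rw [h]
  · exact G.same i i₀ l₀ h (h1 i i₀ hi hi₀ h)

/-- The centre does not depend on the member of the cluster. -/
theorem Good.centre_eq (G : Good y D q E s c a) {S : Finset (Fin N)} {l₀ : Fin r}
    (h1 : ∀ i j, i ∈ S → j ∈ S → i ≠ j → 1 ≤ a i j l₀) {i i₀ : Fin N} (hi₀ : i₀ ∈ S) (hi : i ∈ S) :
    (s i).ker ⊔ E (c i₀ l₀) = (s i₀).ker ⊔ E (c i₀ l₀) := by
  by_cases h : i = i₀
  · rw [h]
  have := G.closed i
  have := G.closed i₀
  apply le_antisymm
  · refine sup_le_of_coincidence q (s i₀) (s i) (G.sec i₀) (G.sec i) _ (D l₀) (G.ec i₀ l₀) ?_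
    rw [G.ex i₀ i (Ne.symm h)]
    exact prod_le D _ (h1 i₀ i hi₀ hi (Ne.symm h))
  · refine sup_le_of_coincidence q (s i) (s i₀) (G.sec i) (G.sec i₀) _ (D l₀) ?_ ?_
    · rw [← G.c_eq h1 hi₀ hi]
      exact G.ec i l₀
    · rw [G.ex i i₀ h]
      exact prod_le D _ (h1 i i₀ hi hi₀ h)

theorem Good.comap_mem (G : Good y D q E s c a) {S : Finset (Fin N)} {l₀ : Fin r}
    (h1 : ∀ i j, i ∈ S → j ∈ S → i ≠ j → 1 ≤ a i j l₀) {i i₀ : Fin N} (hi₀ : i₀ ∈ S) (hi : i ∈ S) :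
    ((s i₀).ker ⊔ E (c i₀ l₀)).comap (s i) = D l₀ := by
  rw [← G.centre_eq h1 hi₀ hi, comap_sup_ker, ← G.c_eq h1 hi₀ hi]
  exact G.ec i l₀

/-- The centre lies over `D l₀`. -/
theorem Good.centre_support (G : Good y D q E s c a) (i₀ : Fin N) (l₀ : Fin r) {x : P}
    (hx : x ∈ ((s i₀).ker ⊔ E (c i₀ l₀)).support) : s i₀ (q x) = x ∧ q x ∈ (D l₀).support := by
  have := G.closed i₀
  rw [mem_support_sup, mem_support_iff_range] at hx
  obtain ⟨⟨t, rfl⟩, h2⟩ := hx
  have h3 : q (s i₀ t) = t := by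
    have := congr($(G.sec i₀) t)
    rwa [Scheme.Hom.comp_apply] at this
  rw [h3]
  refine ⟨rfl, ?_⟩
  rw [← G.ec i₀ l₀, mem_support_comap]
  exact h2

theorem Good.comap_notMem (G : Good y D q E s c a) {S : Finset (Fin N)} {l₀ : Fin r}
    (h3 : ∀ i j, i ∈ S → j ∉ S → ∀ x, x ∈ (D l₀).support → ∀ l, x ∈ (D l).support → a i j l = 0)
    {j i₀ : Fin N} (hi₀ : i₀ ∈ S) (hj : j ∉ S) : ((s i₀).ker ⊔ E (c i₀ l₀)).comap (s j) = ⊤ := by
  rw [eq_top_iff_support]
  intro x hx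
  rw [mem_support_comap] at hx
  obtain ⟨h4, h5⟩ := G.centre_support i₀ l₀ hx
  have h6 : q (s j x) = x := by
    have := congr($(G.sec j) x)
    rwa [Scheme.Hom.comp_apply] at this
  rw [h6] at h4 h5
  have hne : i₀ ≠ j := by rintro rfl; exact hj hi₀
  have h7 : x ∈ ((s i₀).ker.comap (s j)).support := by
    rw [mem_support_comap]
    exact ((mem_support_sup _ _ _).1 hx).1
  rw [G.ex i₀ j hne, mem_support_prod] at h7
  obtain ⟨l, -, hl, hxl⟩ := h7
  exact hl (h3 i₀ j hi₀ hj x h5 l hxl)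

/-- The new family: the exceptional divisor, the strict transform of `E e₀`, the pullbacks of the others. -/
noncomputable def newE {P' : Scheme.{u}} (b : P' ⟶ P) (E : Fin m → P.IdealSheafData) (𝓘 : P.IdealSheafData)
    (e₀ : Fin m) (T1 : P'.IdealSheafData) : Fin (m + 1) → P'.IdealSheafData :=
  Fin.cons (𝓘.comap b) (Function.update (fun e => (E e).comap b) e₀ T1)

/-- The new labels. -/
def newC (c : Fin N → Fin r → Fin m) (S : Finset (Fin N)) (l₀ : Fin r) : Fin N → Fin r → Fin (m + 1) :=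
  fun i l => if i ∈ S ∧ l = l₀ then 0 else (c i l).succ

section Blow

variable {S : Finset (Fin N)} {l₀ : Fin r} {i₀ : Fin N} {P' : Scheme.{u}} {b : P' ⟶ P} {T1 : P'.IdealSheafData}
  {τ : Fin N → (Y ⟶ P')}

theorem Good.isEff_D (hD : IsNCD D y) (l : Fin r) : IsEffCartierIdeal (D l) := K911.Ncd.isEff_of_isNCD hD l

theorem Good.mem_step (hLB : LB K) (hD : IsNCD D y) (G : Good y D q E s c a)
    (h1 : ∀ i j, i ∈ S → j ∈ S → i ≠ j → 1 ≤ a i j l₀) (hi₀ : i₀ ∈ S)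
    (hb : IsBlowUp b ((s i₀).ker ⊔ E (c i₀ l₀)))
    (hT1 : T1 * ((s i₀).ker ⊔ E (c i₀ l₀)).comap b = (E (c i₀ l₀)).comap b)
    (hτ : ∀ j, τ j ≫ b = s j) {i : Fin N} (hi : i ∈ S) :
    (τ i).ker * ((s i₀).ker ⊔ E (c i₀ l₀)).comap b = (s i).ker.comap b ∧ Smooth (b ≫ q ≫ y) ∧
    IsNCD (Fin.cons (((s i₀).ker ⊔ E (c i₀ l₀)).comap b) (Fin.cons (τ i).ker
      (Function.update (fun e => (E e).comap b) (c i₀ l₀) T1) : Fin (m + 1) → P'.IdealSheafData) :
        Fin (m + 2) → P'.IdealSheafData) (b ≫ q ≫ y) := by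
  set 𝓘 := (s i₀).ker ⊔ E (c i₀ l₀) with h𝓘
  have := G.closed i
  have hcen : (Fin.cons (s i).ker E : Fin (m + 1) → P.IdealSheafData) 0 ⊔
      (Fin.cons (s i).ker E : Fin (m + 1) → P.IdealSheafData) (c i₀ l₀).succ = 𝓘 := by
    rw [Fin.cons_zero, Fin.cons_succ]
    exact G.centre_eq h1 hi₀ hi
  have hle : (s i).ker ≤ 𝓘 := by
    rw [h𝓘, ← G.centre_eq h1 hi₀ hi]
    exact le_sup_left
  obtain ⟨A1, hA1⟩ := K972.Basic.exists_mul_eq hb.1 (Scheme.IdealSheafData.comap_mono b hle)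
  obtain ⟨hsm, hncd⟩ := hLB P P' (q ≫ y) (m + 1) (Fin.cons (s i).ker E) G.smooth (G.ncds i) 0 (c i₀ l₀).succ
    (Fin.succ_ne_zero _).symm b (by rw [hcen]; exact hb) A1 T1 (by rw [hcen, Fin.cons_zero]; exact hA1)
    (by rw [hcen, Fin.cons_succ]; exact hT1)
  rw [hcen] at hncd
  have hfam : (Fin.cons (𝓘.comap b) (Function.update (Function.update
      (fun k => ((Fin.cons (s i).ker E : Fin (m + 1) → P.IdealSheafData) k).comap b) 0 A1) (c i₀ l₀).succ T1) :
        Fin (m + 2) → P'.IdealSheafData) = Fin.cons (𝓘.comap b) (Fin.cons A1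
      (Function.update (fun e => (E e).comap b) (c i₀ l₀) T1) : Fin (m + 1) → P'.IdealSheafData) := by
    funext k
    refine Fin.cases rfl (fun k => ?_) k
    rw [Fin.cons_succ, Fin.cons_succ]
    refine Fin.cases ?_ (fun e => ?_) k
    · rw [Function.update_of_ne (Fin.succ_ne_zero _).symm, Function.update_self, Fin.cons_zero]
    · rw [Fin.cons_succ]
      by_cases he : e = c i₀ l₀
      · subst he
        rw [Function.update_self, Function.update_self]
      · rw [Function.update_of_ne (fun h => he (Fin.succ_injective _ h)), Function.update_of_ne (Fin.succ_ne_zero e),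
          Function.update_of_ne he, Fin.cons_succ]
  rw [hfam] at hncd
  have hN : IsEffCartierIdeal ((𝓘.comap b).comap A1.subschemeι) :=
    isEff_comap_subschemeι hncd (i := 0) (j := 1) (by simp)
  have hker : (τ i).ker = A1 := by
    refine ker_lift_of_mul (s i) 𝓘 hb (τ i) (hτ i) ?_ A1 hA1 hN
    rw [G.comap_mem h1 hi₀ hi]
    exact Good.isEff_D hD l₀
  rw [hker]
  exact ⟨hA1, hsm, hncd⟩

end Blow

end OneStep

end K284.Step
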