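import Groth.Agent.Resolve.K284.Step

/-!
# Separation of sections: one step preserves the invariants
-/

set_option autoImplicit false
universe u

open CategoryTheory CategoryTheory.Limits AlgebraicGeometry BlowUp

namespace K284.Step

open K284.Sect K284.NcdPt K284.Comb LogNCD K890.Ncd Groth.Agent.Divis Groth.Agent.Divis.IdealComap
  Groth.Agent.Divis.BlowUpFormal

variable {K : Type u} [Field K] {Y : Scheme.{u}} {y : Y ⟶ Spec (CommRingCat.of K)} {r : ℕ}
    {D : Fin r → Y.IdealSheafData} {P : Scheme.{u}}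
    {q : P ⟶ Y} {m : ℕ} {E : Fin m → P.IdealSheafData} {N : ℕ} {s : Fin N → (Y ⟶ P)}
    {c : Fin N → Fin r → Fin m} {a : Fin N → Fin N → Fin r → ℕ}
    {S : Finset (Fin N)} {l₀ : Fin r} {i₀ : Fin N} {P' : Scheme.{u}} {b : P' ⟶ P} {T1 : P'.IdealSheafData}
    {τ : Fin N → (Y ⟶ P')}

theorem sec_apply {q : P ⟶ Y} {s : Y ⟶ P} (h : s ≫ q = 𝟙 Y) (x : Y) : q (s x) = x := by
  have := congr($h x)
  rwa [Scheme.Hom.comp_apply] at this

/-- Members outside the cluster: the kernel of the lift. -/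
theorem Good.ker_notMem (G : Good y D q E s c a)
    (h3 : ∀ i j, i ∈ S → j ∉ S → ∀ x, x ∈ (D l₀).support → ∀ l, x ∈ (D l).support → a i j l = 0)
    (hi₀ : i₀ ∈ S) (hb : IsBlowUp b ((s i₀).ker ⊔ E (c i₀ l₀))) (hτ : ∀ j, τ j ≫ b = s j)
    {j : Fin N} (hj : j ∉ S) : (τ j).ker = (s j).ker.comap b := by
  have := G.closed j
  exact ker_lift_of_disjoint (s j) _ hb (τ j) (hτ j) (G.comap_notMem h3 hi₀ hj)

/-- The inverse image of the exceptional divisor under the new sections. -/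
theorem Good.exc_comap (G : Good y D q E s c a) (h1 : ∀ i j, i ∈ S → j ∈ S → i ≠ j → 1 ≤ a i j l₀)
    (h3 : ∀ i j, i ∈ S → j ∉ S → ∀ x, x ∈ (D l₀).support → ∀ l, x ∈ (D l).support → a i j l = 0)
    (hi₀ : i₀ ∈ S) (hτ : ∀ j, τ j ≫ b = s j) (j : Fin N) :
    (((s i₀).ker ⊔ E (c i₀ l₀)).comap b).comap (τ j) = if j ∈ S then D l₀ else ⊤ := by
  rw [← Scheme.IdealSheafData.comap_comp, hτ]
  split_ifs with hj
  · exact G.comap_mem h1 hi₀ hj
  · exact G.comap_notMem h3 hi₀ hj

theorem Good.step_ex (hLB : LB K) (hD : IsNCD D y) (G : Good y D q E s c a)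
    (h1 : ∀ i j, i ∈ S → j ∈ S → i ≠ j → 1 ≤ a i j l₀)
    (h3 : ∀ i j, i ∈ S → j ∉ S → ∀ x, x ∈ (D l₀).support → ∀ l, x ∈ (D l).support → a i j l = 0)
    (hi₀ : i₀ ∈ S) (hb : IsBlowUp b ((s i₀).ker ⊔ E (c i₀ l₀)))
    (hT1 : T1 * ((s i₀).ker ⊔ E (c i₀ l₀)).comap b = (E (c i₀ l₀)).comap b)
    (hτ : ∀ j, τ j ≫ b = s j) (i j : Fin N) (hij : i ≠ j) :
    (τ i).ker.comap (τ j) = ∏ l, D l ^ step a S l₀ i j l := by
  by_cases hi : i ∈ S
  · obtain ⟨hmul, -, -⟩ := G.mem_step hLB hD h1 hi₀ hb hT1 hτ hi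
    have h4 := congr(Scheme.IdealSheafData.comap $hmul (τ j))
    rw [comap_mul, G.exc_comap h1 h3 hi₀ hτ j, ← Scheme.IdealSheafData.comap_comp, hτ, G.ex i j hij] at h4
    by_cases hj : j ∈ S
    · rw [if_pos hj] at h4
      apply K972.Basic.eq_of_mul_eq_mul (Good.isEff_D hD l₀)
      rw [h4, ← prod_step D _ (h1 i j hi hj hij)]
      congr 1
      refine Finset.prod_congr rfl fun l _ => ?_
      unfold step
      simp only [hi, hj, true_and]
    · rw [if_neg hj, Scheme.IdealSheafData.mul_top] at h4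
      rw [h4]
      refine Finset.prod_congr rfl fun l _ => ?_
      unfold step
      simp only [hj, false_and, and_false, if_false]
  · rw [G.ker_notMem h3 hi₀ hb hτ hi, ← Scheme.IdealSheafData.comap_comp, hτ, G.ex i j hij]
    refine Finset.prod_congr rfl fun l _ => ?_
    unfold step
    simp only [hi, false_and, if_false]

theorem newE_zero (b : P' ⟶ P) (E : Fin m → P.IdealSheafData) (𝓘 : P.IdealSheafData) (e₀ : Fin m)
    (T1 : P'.IdealSheafData) : newE b E 𝓘 e₀ T1 0 = 𝓘.comap b := rfl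

theorem newE_succ (b : P' ⟶ P) (E : Fin m → P.IdealSheafData) (𝓘 : P.IdealSheafData) {e₀ : Fin m}
    (T1 : P'.IdealSheafData) {e : Fin m} (he : e ≠ e₀) : newE b E 𝓘 e₀ T1 e.succ = (E e).comap b := by
  unfold newE
  rw [Fin.cons_succ, Function.update_of_ne he]

theorem newE_self (b : P' ⟶ P) (E : Fin m → P.IdealSheafData) (𝓘 : P.IdealSheafData) (e₀ : Fin m)
    (T1 : P'.IdealSheafData) : newE b E 𝓘 e₀ T1 e₀.succ = T1 := by
  unfold newE
  rw [Fin.cons_succ, Function.update_self]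

/-- The strict transform of the component, restricted to the sections. -/
theorem Good.strict_comap (hD : IsNCD D y) (G : Good y D q E s c a)
    (h1 : ∀ i j, i ∈ S → j ∈ S → i ≠ j → 1 ≤ a i j l₀)
    (h3 : ∀ i j, i ∈ S → j ∉ S → ∀ x, x ∈ (D l₀).support → ∀ l, x ∈ (D l).support → a i j l = 0)
    (hi₀ : i₀ ∈ S) (hT1 : T1 * ((s i₀).ker ⊔ E (c i₀ l₀)).comap b = (E (c i₀ l₀)).comap b)
    (hτ : ∀ j, τ j ≫ b = s j) (j : Fin N) :
    T1.comap (τ j) = if j ∈ S then ⊤ else (E (c i₀ l₀)).comap (s j) := by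
  have h4 := congr(Scheme.IdealSheafData.comap $hT1 (τ j))
  rw [comap_mul, G.exc_comap h1 h3 hi₀ hτ j, ← Scheme.IdealSheafData.comap_comp, hτ] at h4
  split_ifs at h4 ⊢ with hj
  · apply eq_top_of_mul_eq_self (Good.isEff_D hD l₀)
    rw [h4, ← G.c_eq h1 hi₀ hj]
    exact G.ec j l₀
  · rwa [Scheme.IdealSheafData.mul_top] at h4

theorem Good.step_ec (hD : IsNCD D y) (G : Good y D q E s c a)
    (h1 : ∀ i j, i ∈ S → j ∈ S → i ≠ j → 1 ≤ a i j l₀)
    (h3 : ∀ i j, i ∈ S → j ∉ S → ∀ x, x ∈ (D l₀).support → ∀ l, x ∈ (D l).support → a i j l = 0)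
    (hi₀ : i₀ ∈ S) (hT1 : T1 * ((s i₀).ker ⊔ E (c i₀ l₀)).comap b = (E (c i₀ l₀)).comap b)
    (hτ : ∀ j, τ j ≫ b = s j) (j : Fin N) (l : Fin r) :
    (newE b E ((s i₀).ker ⊔ E (c i₀ l₀)) (c i₀ l₀) T1 (newC c S l₀ j l)).comap (τ j) = D l := by
  unfold newC
  by_cases h : j ∈ S ∧ l = l₀
  · rw [if_pos h, newE_zero, G.exc_comap h1 h3 hi₀ hτ j, if_pos h.1, h.2]
  · rw [if_neg h]
    by_cases he : c j l = c i₀ l₀
    · rw [he, newE_self, G.strict_comap hD h1 h3 hi₀ hT1 hτ j]
      by_cases hj : j ∈ S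
      · exfalso
        rw [← G.c_eq h1 hi₀ hj] at he
        exact h ⟨hj, G.inj j he⟩
      · rw [if_neg hj, ← he]
        exact G.ec j l
    · rw [newE_succ _ _ _ _ he, ← Scheme.IdealSheafData.comap_comp, hτ]
      exact G.ec j l

theorem Good.step_et (hD : IsNCD D y) (G : Good y D q E s c a)
    (h1 : ∀ i j, i ∈ S → j ∈ S → i ≠ j → 1 ≤ a i j l₀)
    (h3 : ∀ i j, i ∈ S → j ∉ S → ∀ x, x ∈ (D l₀).support → ∀ l, x ∈ (D l).support → a i j l = 0)
    (hi₀ : i₀ ∈ S) (hT1 : T1 * ((s i₀).ker ⊔ E (c i₀ l₀)).comap b = (E (c i₀ l₀)).comap b)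
    (hτ : ∀ j, τ j ≫ b = s j) (j : Fin N) (e : Fin (m + 1)) (he : ∀ l, newC c S l₀ j l ≠ e) :
    (newE b E ((s i₀).ker ⊔ E (c i₀ l₀)) (c i₀ l₀) T1 e).comap (τ j) = ⊤ := by
  revert he
  refine Fin.cases (fun he => ?_) (fun e he => ?_) e
  · rw [newE_zero, G.exc_comap h1 h3 hi₀ hτ j, if_neg]
    intro hj
    apply he l₀
    unfold newC
    rw [if_pos ⟨hj, rfl⟩]
  · by_cases hee : e = c i₀ l₀
    · subst hee
      rw [newE_self, G.strict_comap hD h1 h3 hi₀ hT1 hτ j]
      split_ifs with hj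
      · rfl
      · refine G.et j _ fun l hl => he l ?_
        unfold newC
        rw [if_neg (fun h => hj h.1), hl]
    · rw [newE_succ _ _ _ _ hee, ← Scheme.IdealSheafData.comap_comp, hτ]
      refine G.et j _ fun l hl => he l ?_
      unfold newC
      rw [if_neg, hl]
      rintro ⟨hj, rfl⟩
      exact hee (hl.symm.trans (G.c_eq h1 hi₀ hj))

theorem newC_injective (G : Good y D q E s c a) (j : Fin N) : Function.Injective (newC c S l₀ j) := by
  intro l l' h
  unfold newC at h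
  split_ifs at h with h1 h2 h2
  · rw [h1.2, h2.2]
  · exact (Fin.succ_ne_zero _ h.symm).elim
  · exact (Fin.succ_ne_zero _ h).elim
  · exact G.inj j (Fin.succ_injective _ h)

theorem Good.step_same (G : Good y D q E s c a) (h2 : ∀ i j, i ∈ S → j ∉ S → a i j l₀ = 0)
    (hsymm : ∀ i j l, a i j l = a j i l) (i j : Fin N)
    (l : Fin r) (hij : i ≠ j) (h : 1 ≤ step a S l₀ i j l) : newC c S l₀ i l = newC c S l₀ j l := by
  have h4 : 1 ≤ a i j l := h.trans (step_le a S l₀ i j l)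
  have h5 := G.same i j l hij h4
  unfold newC
  by_cases hl : l = l₀
  · subst hl
    by_cases hi : i ∈ S <;> by_cases hj : j ∈ S
    · rw [if_pos ⟨hi, rfl⟩, if_pos ⟨hj, rfl⟩]
    · have := h2 i j hi hj; omega
    · have := h2 j i hj hi
      rw [hsymm] at this
      omega
    · rw [if_neg (fun h => hi h.1), if_neg (fun h => hj h.1), h5]
  · rw [if_neg (fun h => hl h.2), if_neg (fun h => hl h.2), h5]

theorem Good.step_cover (G : Good y D q E s c a)
    (hT1 : T1 * ((s i₀).ker ⊔ E (c i₀ l₀)).comap b = (E (c i₀ l₀)).comap b) (x : P') (l : Fin r)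
    (hx : (b ≫ q) x ∈ (D l).support) :
    ∃ e, x ∈ (newE b E ((s i₀).ker ⊔ E (c i₀ l₀)) (c i₀ l₀) T1 e).support := by
  rw [Scheme.Hom.comp_apply] at hx
  obtain ⟨e, he⟩ := G.cover (b x) l hx
  rw [← mem_support_comap] at he
  by_cases hee : e = c i₀ l₀
  · subst hee
    rw [← hT1, mem_support_mul] at he
    rcases he with he | he
    · exact ⟨(c i₀ l₀).succ, by rw [newE_self]; exact he⟩
    · exact ⟨0, he⟩
  · exact ⟨e.succ, by rw [newE_succ _ _ _ _ hee]; exact he⟩

/-- Normal crossings of the new family with the new sections. -/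
theorem Good.step_ncds (hLB : LB K) (hD : IsNCD D y) (G : Good y D q E s c a)
    (h1 : ∀ i j, i ∈ S → j ∈ S → i ≠ j → 1 ≤ a i j l₀)
    (h3 : ∀ i j, i ∈ S → j ∉ S → ∀ x, x ∈ (D l₀).support → ∀ l, x ∈ (D l).support → a i j l = 0)
    (hi₀ : i₀ ∈ S) (hb : IsBlowUp b ((s i₀).ker ⊔ E (c i₀ l₀)))
    (hT1 : T1 * ((s i₀).ker ⊔ E (c i₀ l₀)).comap b = (E (c i₀ l₀)).comap b)
    (hτ : ∀ j, τ j ≫ b = s j) :
    IsNCD (newE b E ((s i₀).ker ⊔ E (c i₀ l₀)) (c i₀ l₀) T1) (b ≫ q ≫ y) ∧
    ∀ j, IsNCD (Fin.cons (τ j).ker (newE b E ((s i₀).ker ⊔ E (c i₀ l₀)) (c i₀ l₀) T1) :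
      Fin (m + 2) → P'.IdealSheafData) (b ≫ q ≫ y) := by
  set 𝓘 := (s i₀).ker ⊔ E (c i₀ l₀) with h𝓘
  have hE' : IsNCD (newE b E 𝓘 (c i₀ l₀) T1) (b ≫ q ≫ y) :=
    isNCD_drop_second (G.mem_step hLB hD h1 hi₀ hb hT1 hτ hi₀).2.2
  refine ⟨hE', fun j => ?_⟩
  by_cases hj : j ∈ S
  · exact isNCD_swap (G.mem_step hLB hD h1 hi₀ hb hT1 hτ hj).2.2
  · have hker := G.ker_notMem h3 hi₀ hb hτ hj
    intro x
    by_cases hx : b x ∈ 𝓘.support
    · -- away from the section
      refine ncdAt_of_map (hE' x) (Fin.cons none some) ?_ ?_ ?_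
      · intro k h
        rcases Fin.eq_zero_or_eq_succ k with rfl | ⟨e, rfl⟩
        · rw [Fin.cons_zero, hker, mem_support_comap]
          intro h4
          have := G.closed j
          rw [mem_support_iff_range] at h4
          obtain ⟨t, ht⟩ := h4
          have h5 := G.comap_notMem (l₀ := l₀) h3 hi₀ hj
          rw [eq_top_iff_support] at h5
          exact h5 t ((mem_support_comap _ _ _).2 (by rw [ht]; exact hx))
        · rw [Fin.cons_succ] at h
          cases h
      · intro k k' h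
        rcases Fin.eq_zero_or_eq_succ k with rfl | ⟨e, rfl⟩
        · rw [Fin.cons_zero] at h
          cases h
        · rw [Fin.cons_succ, Option.some.injEq] at h
          rw [h, Fin.cons_succ]
      · intro k k' k'' h5 h6
        rcases Fin.eq_zero_or_eq_succ k with rfl | ⟨e, rfl⟩
        · rw [Fin.cons_zero] at h5
          cases h5
        rcases Fin.eq_zero_or_eq_succ k' with rfl | ⟨e', rfl⟩
        · rw [Fin.cons_zero] at h6
          cases h6
        rw [Fin.cons_succ, Option.some.injEq] at h5 h6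
        rw [h5, h6]
    · -- off the centre
      have hiso : IsIso (b ∣_ 𝓘.support.compl) :=
        isIso_morphismRestrict_compl_support hb _ disjoint_compl_left
      have h4 := ncdAt_comap (D := (Fin.cons (s j).ker E : Fin (m + 1) → P.IdealSheafData)) (f := q ≫ y) b
        𝓘.support.compl (x' := x) hx (G.ncds j (b x))
      refine ncdAt_of_local h4 (𝓘.comap b).support.compl (fun h => hx ((mem_support_comap _ _ _).1 h))
        (Fin.cons (some 0) (Fin.cons none (fun e : Fin m => some e.succ) : Fin (m + 1) → Option (Fin (m + 1))))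
        ?_ ?_ ?_
      · intro k h
        rcases Fin.eq_zero_or_eq_succ k with rfl | ⟨k, rfl⟩
        · rw [Fin.cons_zero] at h
          cases h
        rcases Fin.eq_zero_or_eq_succ k with rfl | ⟨e, rfl⟩
        · rw [Fin.cons_succ, newE_zero, mem_support_comap]
          exact hx
        · rw [Fin.cons_succ, Fin.cons_succ] at h
          cases h
      · intro k k' h U hU
        rcases Fin.eq_zero_or_eq_succ k with rfl | ⟨k, rfl⟩
        · rw [Fin.cons_zero, Option.some.injEq] at h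
          rw [← h, Fin.cons_zero, Fin.cons_zero, hker]
        rcases Fin.eq_zero_or_eq_succ k with rfl | ⟨e, rfl⟩
        · rw [Fin.cons_succ, Fin.cons_zero] at h
          cases h
        · rw [Fin.cons_succ, Fin.cons_succ, Option.some.injEq] at h
          rw [← h, Fin.cons_succ, Fin.cons_succ]
          by_cases hee : e = c i₀ l₀
          · subst hee
            rw [newE_self, ← hT1, Scheme.IdealSheafData.ideal_mul, Pi.mul_apply]
            have h5 : (𝓘.comap b).ideal U = ⊤ :=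
              K911.Ncd.ideal_eq_top_of_disjoint _ _ fun z hz hz' => hU hz hz'
            rw [h5, Ideal.mul_top]
          · rw [newE_succ _ _ _ _ hee]
      · intro k k' k'' h5 h6
        rcases Fin.eq_zero_or_eq_succ k with rfl | ⟨k, rfl⟩ <;>
          rcases Fin.eq_zero_or_eq_succ k' with rfl | ⟨k', rfl⟩
        · rfl
        · rw [Fin.cons_zero, Option.some.injEq] at h5
          rw [Fin.cons_succ, ← h5] at h6
          rcases Fin.eq_zero_or_eq_succ k' with rfl | ⟨e', rfl⟩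
          · rw [Fin.cons_zero] at h6
            cases h6
          · rw [Fin.cons_succ, Option.some.injEq] at h6
            exact (Fin.succ_ne_zero _ h6).elim
        · rw [Fin.cons_zero, Option.some.injEq] at h6
          rw [Fin.cons_succ, ← h6] at h5
          rcases Fin.eq_zero_or_eq_succ k with rfl | ⟨e', rfl⟩
          · rw [Fin.cons_zero] at h5
            cases h5
          · rw [Fin.cons_succ, Option.some.injEq] at h5
            exact (Fin.succ_ne_zero _ h5).elim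
        · rw [Fin.cons_succ] at h5 h6
          rcases Fin.eq_zero_or_eq_succ k with rfl | ⟨e, rfl⟩
          · rw [Fin.cons_zero] at h5
            cases h5
          rcases Fin.eq_zero_or_eq_succ k' with rfl | ⟨e', rfl⟩
          · rw [Fin.cons_zero] at h6
            cases h6
          rw [Fin.cons_succ, Option.some.injEq] at h5 h6
          rw [Fin.succ_injective _ (h5.trans h6.symm)]

/-- **One step of the separation preserves the invariants.** -/
theorem Good.step (hLB : LB K) (hD : IsNCD D y) (G : Good y D q E s c a)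
    (hsymm : ∀ i j l, a i j l = a j i l)
    (h1 : ∀ i j, i ∈ S → j ∈ S → i ≠ j → 1 ≤ a i j l₀) (h2 : ∀ i j, i ∈ S → j ∉ S → a i j l₀ = 0)
    (h3 : ∀ i j, i ∈ S → j ∉ S → ∀ x, x ∈ (D l₀).support → ∀ l, x ∈ (D l).support → a i j l = 0)
    (hi₀ : i₀ ∈ S) (hb : IsBlowUp b ((s i₀).ker ⊔ E (c i₀ l₀)))
    (hT1 : T1 * ((s i₀).ker ⊔ E (c i₀ l₀)).comap b = (E (c i₀ l₀)).comap b)
    (hτ : ∀ j, τ j ≫ b = s j) (hint : IsIntegral P') (hproj : RelProj.IsHProjective (b ≫ q ≫ y))
    (hsep : IsSeparated b) :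
    Good y D (b ≫ q) (newE b E ((s i₀).ker ⊔ E (c i₀ l₀)) (c i₀ l₀) T1) τ (newC c S l₀)
      (Comb.step a S l₀) where
  int := hint
  proj := by rw [Category.assoc]; exact hproj
  smooth := by rw [Category.assoc]; exact (G.mem_step hLB hD h1 hi₀ hb hT1 hτ hi₀).2.1
  sec j := by rw [← Category.assoc, hτ]; exact G.sec j
  closed j := by
    have := G.closed j
    have : IsClosedImmersion (τ j ≫ b) := by rw [hτ]; infer_instance
    exact IsClosedImmersion.of_comp (τ j) b
  ncd := by rw [Category.assoc]; exact (G.step_ncds hLB hD h1 h3 hi₀ hb hT1 hτ).1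
  ncds j := by rw [Category.assoc]; exact (G.step_ncds hLB hD h1 h3 hi₀ hb hT1 hτ).2 j
  inj := newC_injective G
  ec := G.step_ec hD h1 h3 hi₀ hT1 hτ
  et := G.step_et hD h1 h3 hi₀ hT1 hτ
  ex := G.step_ex hLB hD h1 h3 hi₀ hb hT1 hτ
  same := G.step_same h2 hsymm
  cover := G.step_cover hT1

end K284.Step
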